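import Cfsg.Agent.H747.Hyperfocal
import Cfsg.Agent.H759.FusFactor
set_option linter.all false
/-!
# The hyperfocal subgroup of a factor system (helper803)
-/
set_option autoImplicit false

namespace Cfsg.Agent.H803
open Cfsg Cfsg.FusionSystem

variable {Ω : Type*} [Group Ω] {S : Subgroup Ω} {Ω' : Type*} [Group Ω'] {S' : Subgroup Ω'}
  {T : Subgroup Ω} {F : FusionSystem S} {E : FusionSystem S'} {θ : S →* Ω'}

theorem map_pow_of_semiconj {P : Subgroup Ω} (hP : P ≤ S) {P' : Subgroup Ω'} {α : MulAut P}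
    {α' : MulAut P'} (h : ∀ (x : P) (hx : θ ⟨x, hP x.2⟩ ∈ P'),
      ((α' ⟨θ ⟨x, hP x.2⟩, hx⟩ : P') : Ω') = θ ⟨(α x : P), hP (α x).2⟩) (n : ℕ) :
    ∀ (x : P) (hx : θ ⟨x, hP x.2⟩ ∈ P'),
      (((α' ^ n) ⟨θ ⟨x, hP x.2⟩, hx⟩ : P') : Ω') = θ ⟨((α ^ n) x : P), hP ((α ^ n) x).2⟩ := by
  induction n with
  | zero => intro x hx; rfl
  | succ n ih =>
    intro x hx
    have h1 := h x hx
    have hx2 : θ ⟨(α x : P), hP (α x).2⟩ ∈ P' := by rw [← h1]; exact (α' _).2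
    have h2 := ih (α x) hx2
    have h3 : (α' ^ (n + 1)) ⟨θ ⟨x, hP x.2⟩, hx⟩ = (α' ^ n) (α' ⟨θ ⟨x, hP x.2⟩, hx⟩) := by
      rw [pow_succ]; rfl
    have h4 : (α ^ (n + 1)) x = (α ^ n) (α x) := by rw [pow_succ]; rfl
    have h5 : α' ⟨θ ⟨x, hP x.2⟩, hx⟩ = ⟨θ ⟨(α x : P), hP (α x).2⟩, hx2⟩ := Subtype.ext h1
    rw [h3, h4, h5]
    exact h2

/-- `hyp(F/T) = θ(hyp(F))`. -/
theorem hyperfocal_factor [Finite S] {p : ℕ} [Fact p.Prime] (hS : IsPGroup p S)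
    (hF : F.IsSaturated p) (hT : F.StronglyClosed T) (hE : F.IsFactorSystem T θ E) :
    E.hyperfocalSubgroup p = ((F.hyperfocalSubgroup p).subgroupOf S).map θ := by
  have hp : p.Prime := Fact.out
  have hfE : S' = θ.range := hE.2.2.1.symm
  have hfinS' : Finite S' := by
    rw [hfE]
    exact Finite.of_surjective θ.rangeRestrict θ.rangeRestrict_surjective
  apply le_antisymm
  · refine H747.hyperfocal_le (fun P' hP' α' hα' ho y => ?_)
    have hfinP' : Finite P' := H802.finite_of_le hP'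
    obtain ⟨P, hPdef, φ, hφ, hφe⟩ : ∃ P : Subgroup Ω, P = preimageAlong θ P' ∧ ∃ φ ∈ F.Hom P,
        ∀ (x : Ω) (hx : x ∈ P) (hxS : x ∈ S) (hx' : θ ⟨x, hxS⟩ ∈ P') (hy : φ ⟨x, hx⟩ ∈ S),
        (P'.subtype.comp α'.toMonoidHom) ⟨θ ⟨x, hxS⟩, hx'⟩ = θ ⟨φ ⟨x, hx⟩, hy⟩ :=
      ⟨_, rfl, H759.exists_map_of_factor hE ((H802.mem_autGroup_iff E hP' α').1 hα')⟩
    have hPS : P ≤ S := hPdef ▸ H759.preimageAlong_le
    have hfinP : Finite P := H802.finite_of_le hPS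
    have hθP : ∀ x : P, θ ⟨x, hPS x.2⟩ ∈ P' := fun x => by
      have h1 : (x : Ω) ∈ preimageAlong θ P' := hPdef ▸ x.2
      exact (H759.mem_preimageAlong.1 h1).2
    have hval : ∀ x : P, θ ⟨φ x, H802.hom_apply_mem hφ x⟩ = (α' ⟨θ ⟨x, hPS x.2⟩, hθP x⟩ : P') :=
      fun x => (hφe x x.2 (hPS x.2) (hθP x) (H802.hom_apply_mem hφ x)).symm
    have hmaps : ∀ x : P, φ x ∈ P := by
      intro x
      have h1 : φ x ∈ preimageAlong θ P' := by
        refine H759.mem_preimageAlong.2 ⟨H802.hom_apply_mem hφ x, ?_⟩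
        rw [hval]
        exact (α' _).2
      exact hPdef.ge h1
    obtain ⟨α, hα, hαe⟩ := H802.exists_aut hφ (H802.range_eq_of_mapsTo hφ hmaps)
    have hsemi : ∀ (x : P) (hx : θ ⟨x, hPS x.2⟩ ∈ P'),
        ((α' ⟨θ ⟨x, hPS x.2⟩, hx⟩ : P') : Ω') = θ ⟨(α x : P), hPS (α x).2⟩ := by
      intro x hx
      rw [← hval x]
      congr 1
      exact Subtype.ext (hαe x).symm
    -- choose the exponent
    have hfinA : Finite (MulAut P) := inferInstance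
    obtain ⟨a, m, hm, hn⟩ := Nat.exists_eq_pow_mul_and_not_dvd (orderOf_pos α).ne' p hp.ne_one
    have hcop : Nat.Coprime (p ^ a) (orderOf α') := Nat.Coprime.pow_left a ho.symm
    obtain ⟨k, hk1, hk2⟩ := Nat.chineseRemainder hcop 0 1
    have hk1' : p ^ a ∣ k := (Nat.modEq_zero_iff_dvd).1 hk1
    have hβ : (orderOf (α ^ k)).Coprime p := by
      have h1 : (α ^ k) ^ m = 1 := by
        rw [← pow_mul]
        apply orderOf_dvd_iff_pow_eq_one.1
        rw [hn]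
        exact Nat.mul_dvd_mul_right hk1' m
      exact Nat.Coprime.coprime_dvd_left (orderOf_dvd_of_pow_eq_one h1)
        ((Nat.Prime.coprime_iff_not_dvd hp).2 hm).symm
    have hpow : α' ^ k = α' := by
      have h1 : α' ^ k = α' ^ 1 := by
        rw [pow_eq_pow_iff_modEq]
        exact hk2
      rw [h1, pow_one]
    -- a preimage of `y`
    obtain ⟨x, hxS, hxP, hxy⟩ := H759.exists_preimage_of_mem hE hP' y.2
    rw [← hPdef] at hxP
    have hθx : θ ⟨x, hxS⟩ ∈ P' := by rw [hxy]; exact y.2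
    have h2 := map_pow_of_semiconj hPS hsemi k ⟨x, hxP⟩ hθx
    rw [hpow] at h2
    have h3 := H747.hyperfocal_mem_of_coprime hPS (pow_mem hα k) hβ ⟨x, hxP⟩
    have hy : (⟨θ ⟨x, hxS⟩, hθx⟩ : P') = y := Subtype.ext hxy
    refine ⟨⟨_, H747.hyperfocal_le_base F p h3⟩, h3, ?_⟩
    have h4 : (⟨(x : Ω)⁻¹ * ((α ^ k) ⟨x, hxP⟩ : P), H747.hyperfocal_le_base F p h3⟩ : S) =
        (⟨x, hxS⟩ : S)⁻¹ * ⟨((α ^ k) ⟨x, hxP⟩ : P), hPS ((α ^ k) ⟨x, hxP⟩).2⟩ := Subtype.ext rfl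
    rw [h4, map_mul, map_inv, hxy, ← h2]
    have h5 : (⟨θ ⟨((⟨x, hxP⟩ : P) : Ω), hPS (⟨x, hxP⟩ : P).2⟩, hθx⟩ : P') = y := Subtype.ext hxy
    rw [h5]
  · have hle : F.hyperfocalSubgroup p ≤ preimageAlong θ (E.hyperfocalSubgroup p) := by
      refine H747.hyperfocal_le (fun P hP α hα ho x => ?_)
      have hfinP : Finite P := H802.finite_of_le hP
      have hαF := (H802.mem_autGroup_iff F hP α).1 hα
      obtain ⟨ψ, hψ, hψe⟩ := H759.exists_lift hS hF hT P _ hαF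
      set P' := imageAlong θ P with hP'def
      have hP'S : P' ≤ S' := by rw [hfE]; exact H759.imageAlong_le_range
      have hfinP' : Finite P' := H802.finite_of_le hP'S
      have hpre : preimageAlong θ P' ≤ P ⊔ T := by
        intro z hz
        obtain ⟨hzS, hz'⟩ := H759.mem_preimageAlong.1 hz
        obtain ⟨w, hwS, hwP, hw⟩ := H759.mem_imageAlong.1 hz'
        have h1 := (H759.theta_eq_iff hE).1 hw
        have h2 : z = w * (w⁻¹ * z) := by group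
        rw [h2]
        exact (P ⊔ T).mul_mem ((le_sup_left : P ≤ P ⊔ T) hwP) ((le_sup_right : T ≤ P ⊔ T) h1)
      obtain ⟨φ', hφ', hφe⟩ := H759.exists_factor_map hT hE hψ hP'S hpre
      have hθP : ∀ x : P, θ ⟨x, hP x.2⟩ ∈ P' := fun x => H759.mem_imageAlong.2 ⟨x, hP x.2, x.2, rfl⟩
      have hval : ∀ x : P, φ' ⟨θ ⟨x, hP x.2⟩, hθP x⟩ = θ ⟨(α x : P), hP (α x).2⟩ := by
        intro x
        have hx' : (x : Ω) ∈ P ⊔ T := (le_sup_left : P ≤ P ⊔ T) x.2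
        rw [hφe x hx' (hP x.2) (hθP x) (H802.hom_apply_mem hψ _)]
        rw [(H759.theta_eq_iff hE)]
        have h1 := T.inv_mem (hψe x hx')
        have h2 : ((ψ ⟨x, hx'⟩)⁻¹ * ((α x : P) : Ω)) =
            ((P.subtype.comp α.toMonoidHom x)⁻¹ * ψ ⟨x, hx'⟩)⁻¹ := by
          rw [mul_inv_rev, inv_inv]; rfl
        show ((ψ ⟨x, hx'⟩)⁻¹ * ((α x : P) : Ω)) ∈ T
        rw [h2]
        exact h1
      have hmaps : ∀ y : P', φ' y ∈ P' := by
        rintro ⟨y, hy⟩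
        obtain ⟨w, hwS, hwP, rfl⟩ := H759.mem_imageAlong.1 hy
        rw [hval ⟨w, hwP⟩]
        exact hθP _
      obtain ⟨α', hα', hαe'⟩ := H802.exists_aut hφ' (H802.range_eq_of_mapsTo hφ' hmaps)
      have hsemi : ∀ (x : P) (hx : θ ⟨x, hP x.2⟩ ∈ P'),
          ((α' ⟨θ ⟨x, hP x.2⟩, hx⟩ : P') : Ω') = θ ⟨(α x : P), hP (α x).2⟩ := by
        intro x hx
        rw [hαe']
        exact hval x
      have ho' : (orderOf α').Coprime p := by
        refine Nat.Coprime.coprime_dvd_left (orderOf_dvd_of_pow_eq_one ?_) ho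
        apply MulEquiv.ext
        rintro ⟨y, hy⟩
        obtain ⟨w, hwS, hwP, rfl⟩ := H759.mem_imageAlong.1 hy
        apply Subtype.ext
        have h1 := map_pow_of_semiconj hP hsemi (orderOf α) ⟨w, hwP⟩ hy
        rw [pow_orderOf_eq_one] at h1
        exact h1
      have h1 := H747.hyperfocal_mem_of_coprime hP'S hα' ho' ⟨_, hθP x⟩
      refine H759.mem_preimageAlong.2 ⟨S.mul_mem (S.inv_mem (hP x.2)) (hP (α x).2), ?_⟩
      rw [hsemi x (hθP x)] at h1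
      have h4 : (⟨(x : Ω)⁻¹ * (α x : P), S.mul_mem (S.inv_mem (hP x.2)) (hP (α x).2)⟩ : S) =
          (⟨x, hP x.2⟩ : S)⁻¹ * ⟨(α x : P), hP (α x).2⟩ := Subtype.ext rfl
      rw [h4, map_mul, map_inv]
      exact h1
    rintro _ ⟨s, hs, rfl⟩
    obtain ⟨hsS, h1⟩ := H759.mem_preimageAlong.1 (hle hs)
    exact h1

end Cfsg.Agent.H803
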