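import Cfsg.Agent.H637.OrthOdd
import Cfsg.Agent.H94.Syl2Sym
import Mathlib
import Cfsg.Agent.H95.SelfNorm
import Cfsg.Agent.H94.Matching
import Cfsg.Agent.H769.SpSix
import Cfsg.Agent.FastGrp
import Cfsg.Agent.Prune
set_option linter.all false

section
prune_inst 0x7fbdf9ff79f8e5dfdfff7fffaff6dffdfdbbbfffe6fffdcb7fe06bff2bdf6b00cfc7fb878feb12fe1ff7ea1c14f87b13fffffeffea6fdc7ffffd5ff41ffbffdfedf7b50871959c340f380fff03f0778e7f3fffffffffffffffffffffffffffbeffbfffffffff

-- part: H803/OmPlane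
section
prune_inst 0x200008601100000000000000800000040400009000000800e04009420140a000000080000c801000000000002008000000100000022000000a000000000001000000000480088000000000000080000000000000000000000000000000000000000000000
set_option linter.all false
open scoped Cfsg.Agent.FastGrp

/-!
# The isometry groups of planes and lines over fields of odd order (helper803)

* `SN X` : the Sylow 2-subgroups of `X` are self-normalising; `sn_dihedral`, `SN.congr`, `sn_plane`, `sn_line`,
  `sn_of_subsingleton`.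
* `plane_sq` : an isometry `a` of a plane with `(a² + 1)(a - 1) = 0` has `a = 1` or `a² = -1`;
* `plane_ns` : it is `1` if the plane is `⟨d₀, d₁⟩` with `d₀ d₁` a nonsquare.
-/

set_option autoImplicit false

namespace Cfsg.Agent.H803.OmPlane

open Matrix Subgroup QuadraticMap
open Cfsg.Agent.H637
open Cfsg.Agent.ClassicalGeometry.Reflection

/-- The Sylow `2`-subgroups are self-normalising. -/
def SN (X : Type*) [Group X] : Prop :=
  ∀ P : Sylow 2 X, ∀ x : X, (∀ t ∈ (P : Subgroup X), x * t * x⁻¹ ∈ (P : Subgroup X)) → x ∈ (P : Subgroup X)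

theorem sn_dihedral (n : ℕ) [NeZero n] : SN (DihedralGroup n) := by
  have : Fact (Nat.Prime 2) := ⟨Nat.prime_two⟩
  intro P x hx
  have h2 : (DihedralGroup.sr 0 : DihedralGroup n) ^ 2 = 1 := by
    rw [pow_two, DihedralGroup.sr_mul_sr, sub_self]; rfl
  obtain ⟨b, hb, -, hb2⟩ := exists_mem_sylow (χ := dsgn n) h2 P
  obtain ⟨j, rfl⟩ := exists_sr hb2
  -- the rotations
  have key : ∀ i : ZMod n, (∀ t ∈ (P : Subgroup (DihedralGroup n)),
      DihedralGroup.r i * t * (DihedralGroup.r i)⁻¹ ∈ (P : Subgroup (DihedralGroup n))) →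
      DihedralGroup.r i ∈ (P : Subgroup (DihedralGroup n)) := by
    intro i hi
    refine H94.Syl2Sym.mem_of_sq P le_rfl hi ?_
    have h3 := mul_mem (hi _ hb) (inv_mem hb)
    have e : (DihedralGroup.r i : DihedralGroup n) * DihedralGroup.sr j * (DihedralGroup.r i)⁻¹ *
        (DihedralGroup.sr j)⁻¹ = DihedralGroup.r i * DihedralGroup.r i := by
      rw [mul_inv_eq_iff_eq_mul, mul_inv_eq_iff_eq_mul]
      simp only [DihedralGroup.r_mul_r, DihedralGroup.r_mul_sr, DihedralGroup.sr_mul_r]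
      congr 1
      ring
    rw [← e]
    exact h3
  rcases x with i | i
  · exact key i hx
  · have h4 : (DihedralGroup.sr i : DihedralGroup n) = DihedralGroup.r (j - i) * DihedralGroup.sr j := by
      rw [DihedralGroup.r_mul_sr]
      congr 1
      ring
    have h5 : (DihedralGroup.r (j - i) : DihedralGroup n) = DihedralGroup.sr i * (DihedralGroup.sr j)⁻¹ := by
      rw [h4, mul_inv_cancel_right]
    rw [h4]
    refine mul_mem (key _ fun t ht => ?_) hb
    have e : (DihedralGroup.r (j - i) : DihedralGroup n) * t * (DihedralGroup.r (j - i))⁻¹ =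
        DihedralGroup.sr i * ((DihedralGroup.sr j)⁻¹ * t * DihedralGroup.sr j) * (DihedralGroup.sr i)⁻¹ := by
      rw [h5]; group
    rw [e]
    exact hx _ (mul_mem (mul_mem (inv_mem hb) ht) hb)

theorem SN.congr {X Y : Type*} [Group X] [Group Y] [Finite X] (e : Y ≃* X) (h : SN Y) : SN X := by
  intro P x hx
  obtain ⟨T, hT⟩ := sylow_map_equiv e P
  have hm : ∀ z : Y, e z ∈ (P : Subgroup X) ↔ z ∈ (T : Subgroup Y) := by
    intro z
    rw [hT]
    constructor
    · rintro ⟨w, hw, he⟩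
      exact (e.injective he) ▸ hw
    · exact fun h => ⟨z, h, rfl⟩
  obtain ⟨y, rfl⟩ := e.surjective x
  rw [hm]
  refine h T y fun t ht => ?_
  have := hx (e t) ((hm t).2 ht)
  rwa [← map_inv, ← map_mul, ← map_mul, hm] at this

theorem sn_of_two_group {X : Type*} [Group X] (h : IsPGroup 2 X) : SN X := by
  intro P x _
  have h1 : (⊤ : Subgroup X) = P := P.3 (h.to_subgroup ⊤) le_top
  rw [← h1]
  exact mem_top x

section Field

variable {F : Type*} [Field F] [Fintype F]

/-- Dimension two. -/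
theorem sn_plane (hF : Odd (Fintype.card F)) {ι : Type} [Fintype ι] [DecidableEq ι]
    (hι : Fintype.card ι = 2) (Q : QuadraticForm F (ι → F)) (hQ : (polarBilin Q).Nondegenerate) :
    SN (Cfsg.isometryGroup F (⇑Q)) := by
  have h2 := two_ne_zero_of_odd hF
  have h1 : 1 < Fintype.card F := Fintype.one_lt_card
  have hm1 : (-1 : F) ≠ 0 := neg_ne_zero.2 one_ne_zero
  have hQ0 := disc_ne_zero' Q hQ
  by_cases hs : IsSquare (disc (LieClassical.OmegaReindex.quadPlus 1 F) * disc Q)
  · obtain ⟨e, he⟩ := exists_equiv h2 (LieClassical.OmegaReindex.quadPlus 1 F) Q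
      (LieClassical.OmegaReindex.quadPlus_nondegenerate (m := 1)) hQ (by rw [hι]; simp) hs
    have e1 := isoConj e _ _ he
    rw [LieClassical.OmegaReindex.coe_quadPlus] at e1
    obtain ⟨e2⟩ := S0305.result (F := F) rfl
    have : NeZero (Fintype.card F - 1) := ⟨by omega⟩
    exact (sn_dihedral (Fintype.card F - 1)).congr (e2.symm.trans e1)
  · obtain ⟨b, hb⟩ : ∃ b : F, ¬ IsSquare (-b) := by
      obtain ⟨b, hb⟩ := FiniteField.exists_nonsquare (ClassicalGeometry.Universal.ringChar_ne_two h2)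
      exact ⟨-b, by rwa [neg_neg]⟩
    have hb0 : b ≠ 0 := by
      rintro rfl
      apply hb
      rw [neg_zero]
      exact IsSquare.zero
    have hab : ∀ z₁ z₂ : F, z₁ ^ 2 + 0 * z₁ * z₂ + b * z₂ ^ 2 = 0 → z₁ = 0 ∧ z₂ = 0 := by
      intro z₁ z₂ h
      by_cases hz : z₂ = 0
      · subst hz
        simp at h
        exact ⟨h, rfl⟩
      · exfalso
        apply hb
        refine ⟨z₁ / z₂, ?_⟩
        field_simp
        linear_combination -h
    have hnsq : ¬ IsSquare (-1 * b) := by rwa [neg_one_mul]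
    have hd : IsSquare (disc (LieClassical.OmegaReindex.quadMinus 0 F 0 b) * disc Q) := by
      have h3 : disc (LieClassical.OmegaReindex.quadMinus 0 F 0 b) * disc Q = (b * disc Q) * (2 * 2) := by
        rw [disc_minus]; ring
      rw [h3]
      refine IsSquare.mul ?_ ⟨2, rfl⟩
      have e1 := ClassicalGeometry.Universal.isSquare_mul_iff h2 hm1 hb0
      have e2 := ClassicalGeometry.Universal.isSquare_mul_iff h2 hm1 hQ0
      have e3 := ClassicalGeometry.Universal.isSquare_mul_iff h2 hb0 hQ0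
      rw [disc_plus, pow_one, e2] at hs
      rw [e1] at hnsq
      rw [e3]
      exact prop_aux2 _ _ _ hs hnsq
    obtain ⟨e, he⟩ := exists_equiv h2 (LieClassical.OmegaReindex.quadMinus 0 F 0 b) Q
      (LieClassical.OmegaReindex.quadMinus_nondegenerate hab) hQ (by rw [hι]; simp) hd
    have e1 := isoConj e _ _ he
    rw [LieClassical.OmegaReindex.coe_quadMinus] at e1
    obtain ⟨e2⟩ := S0306.result (F := F) rfl 0 b hab
    exact (sn_dihedral (Fintype.card F + 1)).congr (e2.symm.trans e1)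

theorem isPGroup_of_card_two {X : Type*} [Group X] (h : Nat.card X = 2) : IsPGroup 2 X := by
  have : Fact (Nat.Prime 2) := ⟨Nat.prime_two⟩
  exact IsPGroup.of_card (n := 1) (by rw [h, pow_one])

/-- Dimension one. -/
theorem sn_line (hF : Odd (Fintype.card F)) (d : F) (hd : d ≠ 0) :
    SN (Cfsg.isometryGroup F (⇑(DQ (fun _ : Unit => d)))) :=
  sn_of_two_group (isPGroup_of_card_two (card_isometry_unit (two_ne_zero_of_odd hF) d hd))

end Field

section Alg

variable {F : Type*} [Field F]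

/-- `2 × 2` matrices with `(A² + 1)(A - 1) = 0` and determinant `± 1`. -/
theorem plane_sq (h2 : (2 : F) ≠ 0) (A : Matrix (Fin 2) (Fin 2) F) (hdet : A.det * A.det = 1)
    (h : (A * A + 1) * (A - 1) = 0) : A = 1 ∨ A * A = -1 := by
  have hCH : A * A = A.trace • A - A.det • (1 : Matrix (Fin 2) (Fin 2) F) := by
    ext i j
    fin_cases i <;> fin_cases j <;>
      simp [Matrix.mul_apply, Fin.sum_univ_two, Matrix.trace_fin_two, Matrix.det_fin_two] <;> ring
  by_cases hd : (A - 1).det = 0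
  · left
    have hd' : 1 - A.trace + A.det = 0 := by
      rw [Matrix.det_fin_two] at hd ⊢
      rw [Matrix.trace_fin_two]
      simp [Matrix.sub_apply] at hd
      linear_combination hd
    have htr : A.trace = 1 + A.det := by linear_combination -hd'
    rcases mul_self_eq_one_iff.1 hdet with h1 | h1
    · -- `A² + 1 = 2 A`
      have e1 : A * A + 1 = (2 : F) • A := by
        rw [hCH, htr, h1, one_smul, sub_add_cancel]
        congr 1
        norm_num
      rw [e1, Matrix.smul_mul, smul_eq_zero] at h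
      have h3 := h.resolve_left h2
      have hu : IsUnit A := (Matrix.isUnit_iff_isUnit_det A).2 (by rw [h1]; exact isUnit_one)
      have h4 : A - 1 = 0 := (hu.mul_right_eq_zero).1 h3
      exact sub_eq_zero.1 h4
    · have e1 : A * A + 1 = (2 : F) • 1 := by
        rw [hCH, htr, h1, add_neg_cancel, zero_smul, zero_sub, neg_smul, neg_neg, one_smul, two_smul]
      rw [e1, Matrix.smul_mul, smul_eq_zero, one_mul] at h
      exact sub_eq_zero.1 (h.resolve_left h2)
  · right
    have hu : IsUnit (A - 1) := (Matrix.isUnit_iff_isUnit_det _).2 (isUnit_iff_ne_zero.2 hd)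
    have h3 : A * A + 1 = 0 := (hu.mul_left_eq_zero).1 h
    exact eq_neg_of_add_eq_zero_left h3

variable {ι : Type} [Fintype ι] [DecidableEq ι]

/-- The Gram matrix is preserved. -/
theorem gram (h2 : (2 : F) ≠ 0) (d : ι → F) {g : GL ι F} (hg : g ∈ Cfsg.isometryGroup F (⇑(DQ d))) :
    (g : Matrix ι ι F)ᵀ * Matrix.diagonal d * (g : Matrix ι ι F) = Matrix.diagonal d := by
  rw [mem_isometryGroup_iff] at hg
  ext i j
  have h1 : polar (⇑(DQ d)) ((g : Matrix ι ι F) *ᵥ Pi.single i 1) ((g : Matrix ι ι F) *ᵥ Pi.single j 1) =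
      polar (⇑(DQ d)) (Pi.single i 1) (Pi.single j 1) := by
    rw [polar, polar, ← Matrix.mulVec_add, hg, hg, hg]
  rw [polar_DQ, polar_DQ] at h1
  have h3 : (2 : F) * (((g : Matrix ι ι F)ᵀ * Matrix.diagonal d * (g : Matrix ι ι F)) i j) =
      2 * (Matrix.diagonal d i j) := by
    rw [Matrix.mul_apply, Finset.mul_sum]
    have e1 : ∀ k, (2 : F) * (((g : Matrix ι ι F)ᵀ * Matrix.diagonal d) i k * (g : Matrix ι ι F) k j) =
        2 * d k * (((g : Matrix ι ι F) *ᵥ Pi.single i 1) k * ((g : Matrix ι ι F) *ᵥ Pi.single j 1) k) := by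
      intro k
      rw [Matrix.mulVec_single_one, Matrix.mulVec_single_one, Matrix.mul_diagonal]
      simp only [Matrix.col_apply, Matrix.transpose_apply]
      ring
    rw [Finset.sum_congr rfl fun k _ => e1 k, h1, Finset.sum_eq_single i]
    · by_cases hij : i = j
      · subst hij
        simp
      · simp [hij]
    · intro k _ hk
      rw [Pi.single_eq_of_ne hk]
      ring
    · intro h
      exact absurd (Finset.mem_univ i) h
  exact mul_left_cancel₀ h2 h3

theorem det_sq (h2 : (2 : F) ≠ 0) (d : ι → F) (hd : ∀ i, d i ≠ 0) {g : GL ι F}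
    (hg : g ∈ Cfsg.isometryGroup F (⇑(DQ d))) :
    (g : Matrix ι ι F).det * (g : Matrix ι ι F).det = 1 := by
  have h1 := congrArg Matrix.det (gram h2 d hg)
  rw [Matrix.det_mul, Matrix.det_mul, Matrix.det_transpose, Matrix.det_diagonal] at h1
  have h3 : (∏ i, d i) ≠ 0 := Finset.prod_ne_zero_iff.2 fun i _ => hd i
  apply mul_right_cancel₀ h3
  linear_combination h1

/-- The plane `⟨d₀, d₁⟩` with `d₀ d₁` a nonsquare has no isometry of square `-1`. -/
theorem plane_ns (h2 : (2 : F) ≠ 0) (d : Fin 2 → F) (hd : ∀ i, d i ≠ 0) (hns : ¬ IsSquare (d 0 * d 1))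
    {g : GL (Fin 2) F} (hg : g ∈ Cfsg.isometryGroup F (⇑(DQ d)))
    (h : ((g : Matrix (Fin 2) (Fin 2) F) * g + 1) * (g - 1) = 0) : (g : Matrix (Fin 2) (Fin 2) F) = 1 := by
  rcases plane_sq h2 _ (det_sq h2 d hd hg) h with h1 | h1
  · exact h1
  exfalso
  have hG := gram h2 d hg
  generalize (g : Matrix (Fin 2) (Fin 2) F) = A at h1 hG
  have a00 := congrFun (congrFun h1 0) 0
  have a01 := congrFun (congrFun h1 0) 1
  have a10 := congrFun (congrFun h1 1) 0
  have g00 := congrFun (congrFun hG 0) 0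
  have g01 := congrFun (congrFun hG 0) 1
  simp [Matrix.mul_apply, Fin.sum_univ_two] at a00 a01 a10 g00 g01
  have hd0 := hd 0
  have hd1 := hd 1
  have h2d : ∀ z : F, z = -z → z = 0 := by
    intro z hz
    have : (2 : F) * z = 0 := by linear_combination hz
    exact (mul_eq_zero.1 this).resolve_left h2
  by_cases hw : A 0 0 + A 1 1 = 0
  · have hw' : A 1 1 = - A 0 0 := by linear_combination hw
    have e1 : A 0 0 * (d 0 * A 0 1 - d 1 * A 1 0) = 0 := by
      rw [hw'] at g01
      linear_combination g01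
    rcases mul_eq_zero.1 e1 with h3 | h3
    · apply hns
      refine ⟨d 1 * A 1 0, ?_⟩
      rw [h3] at g00
      linear_combination (-d 1) * g00
    · apply hd0
      apply h2d
      linear_combination (-1 : F) * g00 + (d 0) * a00 - (A 1 0) * h3
  · have e1 : A 0 1 = 0 := by
      have : A 0 1 * (A 0 0 + A 1 1) = 0 := by linear_combination a01
      exact (mul_eq_zero.1 this).resolve_right hw
    rw [e1] at a00
    have e2 : A 1 0 = 0 := by
      have : A 1 0 * (A 0 0 + A 1 1) = 0 := by linear_combination a10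
      exact (mul_eq_zero.1 this).resolve_right hw
    apply hd0
    apply h2d
    rw [e2] at g00
    linear_combination (-1 : F) * g00 + (d 0) * a00

end Alg

end Cfsg.Agent.H803.OmPlane
end

-- part: H803/OmFrame
section
prune_inst 0x40000040a202000000050010000000000000000003000008400000004880000001060100000000001008000000000000100000020000000a0004000000000000800000a008010862000e000000000000000000000000000000000000000000000000000
set_option linter.all false
open scoped Cfsg.Agent.FastGrp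

-- part: H803/WrNorm
section
/-!
# Self-normalising subgroups of wreath products (helper803)

`Wr M κ` is the semidirect product of `κ → M` by `Perm κ`, `Wr M κ × C` the group considered.
`sub D Σ E` is the subgroup of all elements with components in `D ≤ M`, `Σ ≤ Perm κ`, `E ≤ C`.

* `mem_sub_of_norm` : if `χ : Wr M κ × C → Z` has commutative image, `D`, `Σ`, `E` are self-normalising and every value of
  `χ` on `sub D Σ E` is attained on `D` in every coordinate, then an element which conjugates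
  `sub D Σ E ∩ ker χ` into `sub D Σ E` lies in `sub D Σ E`.
-/

set_option autoImplicit false

namespace Cfsg.Agent.H803.WrNorm

open Subgroup Equiv

variable {M C : Type*} [Group M] [Group C] {κ : Type*} [DecidableEq κ]

/-- The action of the permutations on the families. -/
def act (M : Type*) [Group M] (κ : Type*) : Perm κ →* MulAut (κ → M) where
  toFun σ :=
    { toFun := fun a i => a (σ.symm i)
      invFun := fun a i => a (σ i)
      left_inv := fun a => by funext i; simp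
      right_inv := fun a => by funext i; simp
      map_mul' := fun _ _ => rfl }
  map_one' := rfl
  map_mul' σ τ := rfl

omit [DecidableEq κ] in
@[simp] theorem act_apply (σ : Perm κ) (a : κ → M) (i : κ) : act M κ σ a i = a (σ.symm i) := rfl

/-- The wreath product. -/
abbrev Wr (M : Type*) [Group M] (κ : Type*) := (κ → M) ⋊[act M κ] Perm κ

/-- The subgroup given by `D`, `Σ`, `E`. -/
def sub (D : Subgroup M) (S : Subgroup (Perm κ)) (E : Subgroup C) : Subgroup (Wr M κ × C) where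
  carrier := {x | (∀ i, x.1.left i ∈ D) ∧ x.1.right ∈ S ∧ x.2 ∈ E}
  mul_mem' := by
    rintro x y ⟨h1, h2, h3⟩ ⟨h4, h5, h6⟩
    exact ⟨fun i => mul_mem (h1 i) (h4 _), mul_mem h2 h5, mul_mem h3 h6⟩
  one_mem' := ⟨fun _ => one_mem _, one_mem _, one_mem _⟩
  inv_mem' := by
    rintro x ⟨h1, h2, h3⟩
    exact ⟨fun i => inv_mem (h1 _), inv_mem h2, inv_mem h3⟩

/-- The element concentrated at `i`. -/
def sg (C : Type*) [Group C] (i : κ) : M →* Wr M κ × C :=
  (MonoidHom.inl (Wr M κ) C).comp ((SemidirectProduct.inl).comp (MonoidHom.mulSingle (fun _ : κ => M) i))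

theorem sg_left (i : κ) (d : M) (j : κ) : (sg C i d).1.left j = if j = i then d else 1 := by
  change (Pi.mulSingle i d : κ → M) j = _
  rw [Pi.mulSingle_apply]

theorem sg_right (i : κ) (d : M) : (sg C i d).1.right = (1 : Perm κ) := rfl

theorem sg_snd (i : κ) (d : M) : (sg C i d).2 = (1 : C) := rfl

theorem sg_mem {D : Subgroup M} {S : Subgroup (Perm κ)} {E : Subgroup C} (i : κ) {d : M} (hd : d ∈ D) :
    sg C i d ∈ sub D S E := by
  refine ⟨fun j => ?_, one_mem _, one_mem _⟩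
  rw [sg_left]
  split_ifs
  · exact hd
  · exact one_mem _

omit [DecidableEq κ] in
theorem mul_right' (x y : Wr M κ × C) : (x * y).1.right = x.1.right * y.1.right := rfl

omit [DecidableEq κ] in
theorem inv_right' (x : Wr M κ × C) : (x⁻¹).1.right = (x.1.right)⁻¹ := rfl

theorem mem_sub_of_norm {Z : Type*} [CommGroup Z] (χ : Wr M κ × C →* Z) (D : Subgroup M)
    (S : Subgroup (Perm κ)) (E : Subgroup C) [Nontrivial κ]
    (hD : ∀ m : M, (∀ d ∈ D, m * d * m⁻¹ ∈ D) → m ∈ D)
    (hS : ∀ m : Perm κ, (∀ d ∈ S, m * d * m⁻¹ ∈ S) → m ∈ S)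
    (hE : ∀ m : C, (∀ d ∈ E, m * d * m⁻¹ ∈ E) → m ∈ E)
    (hχ : ∀ x ∈ sub D S E, ∀ i : κ, ∃ d ∈ D, χ (sg C i d) = χ x)
    (x : Wr M κ × C) (hx : ∀ t ∈ sub D S E, χ t = 1 → x * t * x⁻¹ ∈ sub D S E) : x ∈ sub D S E := by
  -- correction
  have hcor : ∀ t ∈ sub D S E, ∀ i : κ, ∃ d ∈ D, sg C i d * t ∈ sub D S E ∧ χ (sg C i d * t) = 1 := by
    intro t ht i
    obtain ⟨d, hd, h⟩ := hχ t ht i
    refine ⟨d⁻¹, inv_mem hd, mul_mem (sg_mem i (inv_mem hd)) ht, ?_⟩
    rw [map_mul, map_inv, map_inv, h, inv_mul_cancel]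
  obtain ⟨i0, -⟩ := exists_pair_ne κ
  -- the permutation
  have h1 : x.1.right ∈ S := by
    apply hS
    intro σ hσ
    obtain ⟨d, hd, h2, h3⟩ := hcor ((⟨1, σ⟩ : Wr M κ), 1) ⟨fun _ => one_mem _, hσ, one_mem _⟩ i0
    have h4 := (hx _ h2 h3).2.1
    rw [mul_right', mul_right', mul_right', inv_right', sg_right, one_mul] at h4
    exact h4
  -- reduction to trivial permutation
  obtain ⟨d0, hd0, h2, h3⟩ := hcor ((⟨1, x.1.right⟩ : Wr M κ), 1) ⟨fun _ => one_mem _, h1, one_mem _⟩ i0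
  set t0 : Wr M κ × C := sg C i0 d0 * ((⟨1, x.1.right⟩ : Wr M κ), 1) with ht0
  obtain ⟨y, hydef⟩ : ∃ y, y = x * t0⁻¹ := ⟨_, rfl⟩
  suffices hy : y ∈ sub D S E by
    have := mul_mem hy h2
    rwa [hydef, inv_mul_cancel_right] at this
  have hyr : y.1.right = 1 := by
    rw [hydef, mul_right', inv_right', ht0, mul_right', sg_right, one_mul]
    exact mul_inv_cancel _
  have hy : ∀ t ∈ sub D S E, χ t = 1 → y * t * y⁻¹ ∈ sub D S E := by
    intro t ht htχ
    have e : y * t * y⁻¹ = x * (t0⁻¹ * t * t0) * x⁻¹ := by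
      rw [hydef]; group
    rw [e]
    apply hx
    · exact mul_mem (mul_mem (inv_mem h2) ht) h2
    · rw [map_mul, map_mul, map_inv, htχ, h3]
      simp
  have hconj : ∀ (t : Wr M κ × C), t.1.right = 1 → ∀ i, (y * t * y⁻¹).1.left i =
      y.1.left i * t.1.left i * (y.1.left i)⁻¹ := by
    intro t ht i
    have e1 : (y * t * y⁻¹).1.left i = y.1.left i * t.1.left (y.1.right.symm i) *
        (y.1.left (y.1.right ((y.1.right * t.1.right).symm i)))⁻¹ := rfl
    rw [e1, hyr, ht]
    rfl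
  refine ⟨fun i => ?_, by rw [hyr]; exact one_mem _, ?_⟩
  · apply hD
    intro d hd
    obtain ⟨l, hl⟩ := exists_ne i
    obtain ⟨d', hd', h5, h6⟩ := hcor _ (sg_mem (S := S) (E := E) i hd) l
    have h7 := (hy _ h5 h6).1 i
    have e2 : (sg C l d' * sg C i d).1.left i = d := by
      have e3 : (sg C l d' * sg C i d).1.left i = (sg C l d').1.left i * (sg C i d).1.left i := rfl
      rw [e3, sg_left, sg_left, if_neg hl.symm, if_pos rfl, one_mul]
    rw [hconj _ rfl, e2] at h7
    exact h7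
  · apply hE
    intro e he
    obtain ⟨d', hd', h5, h6⟩ := hcor ((1 : Wr M κ), e) ⟨fun _ => one_mem _, one_mem _, he⟩ i0
    have h7 := (hy _ h5 h6).2.2
    change y.2 * ((1 : C) * e) * (y.2)⁻¹ ∈ E at h7
    rwa [one_mul] at h7

end Cfsg.Agent.H803.WrNorm
end

-- part: H803/OmWreath
section
/-!
# The wreath product of the isometry group of a plane inside an orthogonal group (helper803)

The form is `DQ (cf d)` on `(κ × Fin 2 ⊕ ρ) → F`: the sum of planes `⟨1, 1⟩` indexed by `κ` and of `DQ d`.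

* `psi : Wr (MM F) κ × CC d →* isometryGroup F (DQ (cf d))`, injective;
* `pr i`, `pR` : the components of a vector; `emb i`, `eR` : the embeddings; `PS I` : sums of planes;
* `exists_psi_eq` : an isometry which permutes the planes lies in the range of `psi`.
-/

set_option autoImplicit false
set_option linter.unusedSectionVars false

namespace Cfsg.Agent.H803.OmWreath

open Matrix Subgroup QuadraticMap Equiv
open Cfsg.Agent.H637 Cfsg.Agent.H803.WrNorm Cfsg.Agent.H803.OmPlane
open Cfsg.Agent.ClassicalGeometry.Reflection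

variable {F : Type*} [Field F] {κ ρ : Type} [Fintype κ] [DecidableEq κ] [Fintype ρ] [DecidableEq ρ]

/-- The coefficients. -/
def cf (κ : Type) (d : ρ → F) : (κ × Fin 2) ⊕ ρ → F := Sum.elim (fun _ => 1) d

/-- The isometry group of the plane. -/
abbrev MM (F : Type*) [Field F] := Cfsg.isometryGroup F (⇑(DQ (one' (Fin 2) F)))
/-- The isometry group of the rest. -/
abbrev CC (d : ρ → F) := Cfsg.isometryGroup F (⇑(DQ d))
/-- The orthogonal group. -/
abbrev OO (κ : Type) [Fintype κ] [DecidableEq κ] (d : ρ → F) := Cfsg.isometryGroup F (⇑(DQ (cf κ d)))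

/-- The components. -/
def pr (i : κ) (v : (κ × Fin 2) ⊕ ρ → F) : Fin 2 → F := fun s => v (Sum.inl (i, s))
/-- The last component. -/
def pR (v : (κ × Fin 2) ⊕ ρ → F) : ρ → F := fun r => v (Sum.inr r)

/-- The embeddings. -/
def emb (i : κ) (w : Fin 2 → F) : (κ × Fin 2) ⊕ ρ → F :=
  Sum.elim (fun p => if p.1 = i then w p.2 else 0) (fun _ => 0)
/-- The embedding of the rest. -/
def eR (w : ρ → F) : (κ × Fin 2) ⊕ ρ → F := Sum.elim (fun _ => 0) w

theorem ext_pr {v w : (κ × Fin 2) ⊕ ρ → F} (h1 : ∀ i, pr i v = pr i w) (h2 : pR v = pR w) : v = w := by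
  funext p
  rcases p with ⟨i, s⟩ | r
  · exact congrFun (h1 i) s
  · exact congrFun h2 r

theorem pr_emb (i j : κ) (w : Fin 2 → F) : pr j (emb i w : (κ × Fin 2) ⊕ ρ → F) = if j = i then w else 0 := by
  funext s
  change (if j = i then w s else 0) = _
  split_ifs <;> rfl

theorem pR_emb (i : κ) (w : Fin 2 → F) : pR (emb i w : (κ × Fin 2) ⊕ ρ → F) = 0 := rfl

theorem pr_eR (j : κ) (w : ρ → F) : pr j (eR w : (κ × Fin 2) ⊕ ρ → F) = 0 := rfl

theorem pR_eR (w : ρ → F) : pR (eR w : (κ × Fin 2) ⊕ ρ → F) = w := rfl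

theorem pr_add (i : κ) (v w : (κ × Fin 2) ⊕ ρ → F) : pr i (v + w) = pr i v + pr i w := rfl

theorem pR_add (v w : (κ × Fin 2) ⊕ ρ → F) : pR (v + w) = pR v + pR w := rfl

theorem pr_smul (i : κ) (c : F) (v : (κ × Fin 2) ⊕ ρ → F) : pr i (c • v) = c • pr i v := rfl

theorem pR_smul (c : F) (v : (κ × Fin 2) ⊕ ρ → F) : pR (c • v) = c • pR v := rfl

theorem decomp (v : (κ × Fin 2) ⊕ ρ → F) : v = ∑ i, emb i (pr i v) + eR (pR v) := by
  funext p
  rw [Pi.add_apply, Finset.sum_apply]
  rcases p with ⟨i, s⟩ | r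
  · change v (Sum.inl (i, s)) = (∑ j, if i = j then v (Sum.inl (j, s)) else 0) + 0
    simp only [_root_.Finset.sum_ite_eq, _root_.Finset.mem_univ, ↓ _root_.reduceIte, _root_.add_zero]
  · change v (Sum.inr r) = (∑ j : κ, (0 : F)) + v (Sum.inr r)
    simp only [_root_.Finset.sum_const_zero, _root_.zero_add]

theorem DQ_cf (d : ρ → F) (v : (κ × Fin 2) ⊕ ρ → F) :
    DQ (cf κ d) v = ∑ i, DQ (one' (Fin 2) F) (pr i v) + DQ d (pR v) := by
  rw [DQ_apply, Fintype.sum_sum_type, Fintype.sum_prod_type]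
  refine congrArg₂ (· + ·) ?_ ?_
  · refine Finset.sum_congr rfl fun i _ => ?_
    rw [DQ_apply]
    rfl
  · rw [DQ_apply]
    rfl

theorem DQ_emb (d : ρ → F) (i : κ) (w : Fin 2 → F) :
    DQ (cf κ d) (emb i w) = DQ (one' (Fin 2) F) w := by
  rw [DQ_cf, pR_emb, QuadraticMap.map_zero, add_zero, Finset.sum_eq_single i]
  · rw [pr_emb, if_pos rfl]
  · intro j _ hj
    rw [pr_emb, if_neg hj, QuadraticMap.map_zero]
  · intro h
    exact absurd (Finset.mem_univ i) h

theorem DQ_eR (d : ρ → F) (w : ρ → F) : DQ (cf κ d) (eR w) = DQ d w := by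
  rw [DQ_cf, pR_eR]
  simp only [pr_eR, _root_.QuadraticMap.weightedSumSquares_apply, _root_.Pi.zero_apply, _root_.MulZeroClass.mul_zero, _root_.smul_eq_mul, _root_.Finset.sum_const_zero, _root_.zero_add]

theorem polar_emb (d : ρ → F) (i : κ) (w : Fin 2 → F) (v : (κ × Fin 2) ⊕ ρ → F) :
    polar (⇑(DQ (cf κ d))) (emb i w) v = polar (⇑(DQ (one' (Fin 2) F))) w (pr i v) := by
  rw [polar_DQ, polar_DQ, Fintype.sum_sum_type, Fintype.sum_prod_type, Finset.sum_eq_single i]
  · have e1 : (∑ r : ρ, 2 * cf κ d (Sum.inr r) * (emb i w (Sum.inr r) * v (Sum.inr r))) = 0 :=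
      Finset.sum_eq_zero fun r _ => by
        change 2 * d r * (0 * v (Sum.inr r)) = 0
        ring
    rw [e1, add_zero]
    refine Finset.sum_congr rfl fun s _ => ?_
    change 2 * (1 : F) * ((if i = i then w s else 0) * v (Sum.inl (i, s))) = _
    rw [if_pos rfl]
    rfl
  · intro j _ hj
    refine Finset.sum_eq_zero fun s _ => ?_
    change 2 * (1 : F) * ((if j = i then w s else 0) * v (Sum.inl (j, s))) = _
    rw [if_neg hj]
    ring
  · intro h
    exact absurd (Finset.mem_univ i) h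

theorem cf_ne (d : ρ → F) (hd : ∀ r, d r ≠ 0) (i : (κ × Fin 2) ⊕ ρ) : cf κ d i ≠ 0 := by
  rcases i with i | i
  · exact one_ne_zero
  · exact hd i

/-! ### The homomorphism -/

/-- The linear map of an element of the wreath product. -/
def lin {d : ρ → F} (x : Wr (MM F) κ × CC d) : ((κ × Fin 2) ⊕ ρ → F) →ₗ[F] ((κ × Fin 2) ⊕ ρ → F) where
  toFun v := Sum.elim (fun p => ((((x.1.left p.1 : MM F) : GL (Fin 2) F) : Matrix (Fin 2) (Fin 2) F) *ᵥ
      (pr (x.1.right.symm p.1) v)) p.2) (((x.2 : GL ρ F) : Matrix ρ ρ F) *ᵥ pR v)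
  map_add' v w := by
    refine ext_pr (fun i => ?_) ?_
    · rw [pr_add]
      funext s
      change ((((x.1.left i : MM F) : GL (Fin 2) F) : Matrix (Fin 2) (Fin 2) F) *ᵥ
        (pr (x.1.right.symm i) (v + w))) s = _
      rw [pr_add, Matrix.mulVec_add]
      rfl
    · change (((x.2 : GL ρ F) : Matrix ρ ρ F) *ᵥ pR (v + w)) = _
      rw [pR_add, Matrix.mulVec_add]
      rfl
  map_smul' c v := by
    refine ext_pr (fun i => ?_) ?_
    · funext s
      change ((((x.1.left i : MM F) : GL (Fin 2) F) : Matrix (Fin 2) (Fin 2) F) *ᵥ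
        (pr (x.1.right.symm i) (c • v))) s = _
      rw [pr_smul, Matrix.mulVec_smul]
      rfl
    · change (((x.2 : GL ρ F) : Matrix ρ ρ F) *ᵥ pR (c • v)) = _
      rw [pR_smul, Matrix.mulVec_smul]
      rfl

theorem pr_lin {d : ρ → F} (x : Wr (MM F) κ × CC d) (i : κ) (v : (κ × Fin 2) ⊕ ρ → F) :
    pr i (lin x v) = (((x.1.left i : MM F) : GL (Fin 2) F) : Matrix (Fin 2) (Fin 2) F) *ᵥ
      (pr (x.1.right.symm i) v) := rfl

theorem pR_lin {d : ρ → F} (x : Wr (MM F) κ × CC d) (v : (κ × Fin 2) ⊕ ρ → F) :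
    pR (lin x v) = ((x.2 : GL ρ F) : Matrix ρ ρ F) *ᵥ pR v := rfl

theorem lin_one {d : ρ → F} : lin (1 : Wr (MM F) κ × CC d) = LinearMap.id := by
  refine LinearMap.ext fun v => ext_pr (fun i => ?_) ?_
  · rw [pr_lin]
    exact Matrix.one_mulVec _
  · rw [pR_lin]
    exact Matrix.one_mulVec _

theorem lin_mul {d : ρ → F} (x y : Wr (MM F) κ × CC d) : lin (x * y) = lin x ∘ₗ lin y := by
  refine LinearMap.ext fun v => ext_pr (fun i => ?_) ?_
  · rw [LinearMap.comp_apply, pr_lin, pr_lin, pr_lin, Matrix.mulVec_mulVec]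
    rfl
  · rw [LinearMap.comp_apply, pR_lin, pR_lin, pR_lin, Matrix.mulVec_mulVec]
    rfl

/-- The homomorphism to matrices. -/
noncomputable def psiMat (κ : Type) [Fintype κ] [DecidableEq κ] (d : ρ → F) :
    Wr (MM F) κ × CC d →* Matrix ((κ × Fin 2) ⊕ ρ) ((κ × Fin 2) ⊕ ρ) F where
  toFun x := LinearMap.toMatrix' (lin x)
  map_one' := by rw [lin_one, LinearMap.toMatrix'_id]
  map_mul' x y := by rw [lin_mul, LinearMap.toMatrix'_comp]

theorem psiMat_mulVec {d : ρ → F} (x : Wr (MM F) κ × CC d) (v : (κ × Fin 2) ⊕ ρ → F) :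
    psiMat κ d x *ᵥ v = lin x v := by
  change LinearMap.toMatrix' (lin x) *ᵥ v = _
  rw [LinearMap.toMatrix'_mulVec]

/-- The homomorphism. -/
noncomputable def psi (κ : Type) [Fintype κ] [DecidableEq κ] (d : ρ → F) :
    Wr (MM F) κ × CC d →* OO κ d :=
  (psiMat κ d).toHomUnits.codRestrict _ (fun x => by
    rw [mem_isometryGroup_iff]
    intro v
    rw [MonoidHom.coe_toHomUnits, psiMat_mulVec, DQ_cf, DQ_cf]
    have h1 : ∀ i, DQ (one' (Fin 2) F) (pr i (lin x v)) = DQ (one' (Fin 2) F) (pr (x.1.right.symm i) v) := by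
      intro i
      rw [pr_lin]
      exact (mem_isometryGroup_iff _ _).1 (x.1.left i).2 _
    have h2 : DQ d (pR (lin x v)) = DQ d (pR v) := by
      rw [pR_lin]
      exact (mem_isometryGroup_iff _ _).1 x.2.2 _
    rw [h2, Finset.sum_congr rfl fun i _ => h1 i]
    congr 1
    exact Equiv.sum_comp x.1.right.symm (fun i => DQ (one' (Fin 2) F) (pr i v)))

/-- The action on vectors. -/
def ap {d : ρ → F} (g : OO κ d) : ((κ × Fin 2) ⊕ ρ → F) →ₗ[F] ((κ × Fin 2) ⊕ ρ → F) :=
  Matrix.toLin' ((g : GL ((κ × Fin 2) ⊕ ρ) F) : Matrix ((κ × Fin 2) ⊕ ρ) ((κ × Fin 2) ⊕ ρ) F)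

theorem ap_apply {d : ρ → F} (g : OO κ d) (v : (κ × Fin 2) ⊕ ρ → F) :
    ap g v = ((g : GL ((κ × Fin 2) ⊕ ρ) F) : Matrix ((κ × Fin 2) ⊕ ρ) ((κ × Fin 2) ⊕ ρ) F) *ᵥ v := rfl

theorem ap_mul {d : ρ → F} (g h : OO κ d) (v : (κ × Fin 2) ⊕ ρ → F) : ap (g * h) v = ap g (ap h v) := by
  rw [ap_apply, ap_apply, ap_apply, coe_mul_mulVec]

theorem ap_one {d : ρ → F} (v : (κ × Fin 2) ⊕ ρ → F) : ap (1 : OO κ d) v = v := Matrix.one_mulVec _

theorem ap_inv_ap {d : ρ → F} (g : OO κ d) (v : (κ × Fin 2) ⊕ ρ → F) : ap g⁻¹ (ap g v) = v := by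
  rw [← ap_mul, inv_mul_cancel, ap_one]

theorem ap_ap_inv {d : ρ → F} (g : OO κ d) (v : (κ × Fin 2) ⊕ ρ → F) : ap g (ap g⁻¹ v) = v := by
  rw [← ap_mul, mul_inv_cancel, ap_one]

theorem ap_injective {d : ρ → F} (g : OO κ d) : Function.Injective (ap g) :=
  Function.LeftInverse.injective (ap_inv_ap g)

theorem ap_ext {d : ρ → F} {g h : OO κ d} (H : ∀ v, ap g v = ap h v) : g = h :=
  isometryGroup_ext _ g h H

theorem DQ_ap {d : ρ → F} (g : OO κ d) (v : (κ × Fin 2) ⊕ ρ → F) :
    DQ (cf κ d) (ap g v) = DQ (cf κ d) v := (mem_isometryGroup_iff _ _).1 g.2 v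

theorem polar_ap {d : ρ → F} (g : OO κ d) (u v : (κ × Fin 2) ⊕ ρ → F) :
    polar (⇑(DQ (cf κ d))) (ap g u) (ap g v) = polar (⇑(DQ (cf κ d))) u v := by
  rw [polar, polar, ← map_add, DQ_ap, DQ_ap, DQ_ap]

theorem ap_psi {d : ρ → F} (x : Wr (MM F) κ × CC d) (v : (κ × Fin 2) ⊕ ρ → F) :
    ap (psi κ d x) v = lin x v := by
  rw [ap_apply]
  exact psiMat_mulVec x v

theorem pr_psi {d : ρ → F} (x : Wr (MM F) κ × CC d) (i : κ) (v : (κ × Fin 2) ⊕ ρ → F) :
    pr i (ap (psi κ d x) v) = (((x.1.left i : MM F) : GL (Fin 2) F) : Matrix (Fin 2) (Fin 2) F) *ᵥ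
      (pr (x.1.right.symm i) v) := by
  rw [ap_psi, pr_lin]

theorem pR_psi {d : ρ → F} (x : Wr (MM F) κ × CC d) (v : (κ × Fin 2) ⊕ ρ → F) :
    pR (ap (psi κ d x) v) = ((x.2 : GL ρ F) : Matrix ρ ρ F) *ᵥ pR v := by
  rw [ap_psi, pR_lin]

theorem psi_emb {d : ρ → F} (x : Wr (MM F) κ × CC d) (i : κ) (w : Fin 2 → F) :
    ap (psi κ d x) (emb i w) = emb (x.1.right i)
      ((((x.1.left (x.1.right i) : MM F) : GL (Fin 2) F) : Matrix (Fin 2) (Fin 2) F) *ᵥ w) := by
  refine ext_pr (fun j => ?_) ?_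
  · rw [pr_psi, pr_emb, pr_emb]
    by_cases hj : j = x.1.right i
    · subst hj
      rw [Equiv.symm_apply_apply, if_pos rfl, if_pos rfl]
    · rw [if_neg hj, if_neg (fun h => hj (by rw [← h, Equiv.apply_symm_apply])), Matrix.mulVec_zero]
  · rw [pR_psi, pR_emb, pR_emb, Matrix.mulVec_zero]

theorem psi_injective (d : ρ → F) : Function.Injective (psi κ d) := by
  rw [injective_iff_map_eq_one]
  intro x hx
  have h1 : ∀ v, ap (psi κ d x) v = v := fun v => by rw [hx, ap_one]
  have h2 : x.1.right = 1 := by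
    apply Equiv.ext
    intro i
    have h3 := h1 (emb i (fun _ => 1))
    rw [psi_emb] at h3
    have h4 := congrArg (pr i) h3
    rw [pr_emb, pr_emb, if_pos rfl] at h4
    by_contra hne
    rw [if_neg (fun h => hne h.symm)] at h4
    have h5 := congrFun h4 0
    exact zero_ne_one h5
  have h3 : ∀ i, x.1.left i = 1 := by
    intro i
    apply isometryGroup_ext
    intro w
    have h4 := h1 (emb i w)
    rw [psi_emb, h2] at h4
    have h5 := congrArg (pr i) h4
    rw [pr_emb, pr_emb, if_pos rfl] at h5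
    change (if i = i then _ else _) = w at h5
    rw [if_pos rfl] at h5
    rw [Subgroup.coe_one, Units.val_one, Matrix.one_mulVec]
    exact h5
  have h4 : x.2 = 1 := by
    apply isometryGroup_ext
    intro w
    have h5 := congrArg pR (h1 (eR w))
    rw [pR_psi, pR_eR] at h5
    rw [Subgroup.coe_one, Units.val_one, Matrix.one_mulVec]
    exact h5
  exact Prod.ext (SemidirectProduct.ext (funext h3) h2) h4

/-! ### Isometries which permute the planes -/

theorem exists_iso {ι : Type} [Fintype ι] [DecidableEq ι] (Q : QuadraticForm F (ι → F))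
    (L : (ι → F) →ₗ[F] (ι → F)) (hL : Function.Injective L) (hQ : ∀ v, Q (L v) = Q v) :
    ∃ g : Cfsg.isometryGroup F (⇑Q), ∀ v, ((g : GL ι F) : Matrix ι ι F) *ᵥ v = L v := by
  have hdet : (LinearMap.toMatrix' L).det ≠ 0 := by
    intro h0
    obtain ⟨v, hv, h1⟩ := Matrix.exists_mulVec_eq_zero_iff.2 h0
    rw [LinearMap.toMatrix'_mulVec] at h1
    exact hv (hL (by rw [h1, map_zero]))
  have hm : Matrix.GeneralLinearGroup.mkOfDetNeZero _ hdet ∈ Cfsg.isometryGroup F (⇑Q) := by
    rw [mem_isometryGroup_iff]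
    intro v
    change Q (LinearMap.toMatrix' L *ᵥ v) = Q v
    rw [LinearMap.toMatrix'_mulVec, hQ]
  refine ⟨⟨_, hm⟩, fun v => ?_⟩
  change LinearMap.toMatrix' L *ᵥ v = L v
  rw [LinearMap.toMatrix'_mulVec]

theorem emb_add (i : κ) (v w : Fin 2 → F) :
    (emb i (v + w) : (κ × Fin 2) ⊕ ρ → F) = emb i v + emb i w := by
  refine ext_pr (fun j => ?_) ?_
  · rw [pr_add, pr_emb, pr_emb, pr_emb]
    split_ifs
    · rfl
    · rw [add_zero]
  · rw [pR_add, pR_emb, pR_emb, pR_emb, add_zero]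

theorem emb_smul (i : κ) (c : F) (w : Fin 2 → F) :
    (emb i (c • w) : (κ × Fin 2) ⊕ ρ → F) = c • emb i w := by
  refine ext_pr (fun j => ?_) ?_
  · rw [pr_smul, pr_emb, pr_emb]
    split_ifs
    · rfl
    · rw [smul_zero]
  · rw [pR_smul, pR_emb, pR_emb, smul_zero]

theorem emb_injective (i : κ) : Function.Injective (emb i : (Fin 2 → F) → ((κ × Fin 2) ⊕ ρ → F)) := by
  intro v w h
  have := congrArg (pr i) h
  rwa [pr_emb, pr_emb, if_pos rfl, if_pos rfl] at this

theorem eR_add (v w : ρ → F) : (eR (v + w) : (κ × Fin 2) ⊕ ρ → F) = eR v + eR w :=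
  ext_pr (fun _ => by rw [pr_add, pr_eR, pr_eR, pr_eR, add_zero]) rfl

theorem eR_smul (c : F) (w : ρ → F) : (eR (c • w) : (κ × Fin 2) ⊕ ρ → F) = c • eR w :=
  ext_pr (fun _ => by rw [pr_smul, pr_eR, pr_eR, smul_zero]) rfl

theorem polar_plane_eq_zero (h2 : (2 : F) ≠ 0) {z : Fin 2 → F}
    (h : ∀ u, polar (⇑(DQ (one' (Fin 2) F))) u z = 0) : z = 0 := by
  funext s
  have h1 := h (Pi.single s 1)
  rw [polar_DQ, Finset.sum_eq_single s] at h1
  · rw [Pi.single_eq_same] at h1
    have h3 : (2 : F) * z s = 0 := by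
      have e : (2 : F) * one' (Fin 2) F s * (1 * z s) = 2 * z s := by
        change (2 : F) * 1 * (1 * z s) = _
        ring
      rw [← e]
      exact h1
    exact (mul_eq_zero.1 h3).resolve_left h2
  · intro k _ hk
    rw [Pi.single_eq_of_ne hk]
    ring
  · intro h
    exact absurd (Finset.mem_univ s) h

theorem exists_psi_eq (h2 : (2 : F) ≠ 0) (d : ρ → F) (g : OO κ d) (σ : Perm κ)
    (h : ∀ i w, ∃ w', ap g (emb i w) = emb (σ i) w') : ∃ x, psi κ d x = g := by
  have h' : ∀ i w, ap g (emb i w) = emb (σ i) (pr (σ i) (ap g (emb i w))) := by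
    intro i w
    obtain ⟨w', hw'⟩ := h i w
    rw [hw', pr_emb, if_pos rfl]
  -- the components
  let A : κ → (Fin 2 → F) →ₗ[F] (Fin 2 → F) := fun j =>
    { toFun := fun w => pr j (ap g (emb (σ.symm j) w))
      map_add' := fun v w => by rw [emb_add, map_add, pr_add]
      map_smul' := fun c w => by rw [emb_smul, map_smul, pr_smul]; rfl }
  have hA : ∀ i w, ap g (emb i w) = emb (σ i) (A (σ i) w) := by
    intro i w
    change _ = emb (σ i) (pr (σ i) (ap g (emb (σ.symm (σ i)) w)))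
    rw [Equiv.symm_apply_apply]
    exact h' i w
  have hA' : ∀ j w, ap g (emb (σ.symm j) w) = emb j (A j w) := by
    intro j w
    have := hA (σ.symm j) w
    rwa [Equiv.apply_symm_apply] at this
  have hAi : ∀ j, Function.Injective (A j) := by
    intro j v w hvw
    apply emb_injective (ρ := ρ) (σ.symm j)
    apply ap_injective g
    rw [hA', hA', hvw]
  have hAq : ∀ j v, DQ (one' (Fin 2) F) (A j v) = DQ (one' (Fin 2) F) v := by
    intro j v
    rw [← DQ_emb d j, ← hA', DQ_ap, DQ_emb]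
  choose a ha using fun j => exists_iso (DQ (one' (Fin 2) F)) (A j) (hAi j) (hAq j)
  have hAs : ∀ j, Function.Surjective (A j) := fun j => LinearMap.injective_iff_surjective.1 (hAi j)
  have hR0 : ∀ j w, pr j (ap g (eR w)) = 0 := by
    intro j w
    apply polar_plane_eq_zero h2
    intro u
    obtain ⟨u', rfl⟩ := hAs j u
    rw [← polar_emb d j, ← hA', polar_ap, polar_emb, pr_eR]
    simp only [polar, _root_.add_zero, _root_.QuadraticMap.weightedSumSquares_apply, _root_.smul_eq_mul, _root_.Fin.sum_univ_two, _root_.Fin.isValue, _root_.sub_self, _root_.Pi.zero_apply, _root_.MulZeroClass.mul_zero, _root_.Finset.sum_const_zero]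
  let B : (ρ → F) →ₗ[F] (ρ → F) :=
    { toFun := fun w => pR (ap g (eR w))
      map_add' := fun v w => by rw [eR_add, map_add, pR_add]
      map_smul' := fun c w => by rw [eR_smul, map_smul, pR_smul]; rfl }
  have hB : ∀ w, ap g (eR w) = eR (B w) := by
    intro w
    refine ext_pr (fun j => ?_) rfl
    rw [hR0, pr_eR]
  have hBi : Function.Injective B := by
    intro v w hvw
    have h1 : (eR v : (κ × Fin 2) ⊕ ρ → F) = eR w := by
      apply ap_injective g
      rw [hB, hB, hvw]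
    exact congrArg pR h1
  have hBq : ∀ v, DQ d (B v) = DQ d v := by
    intro v
    rw [← DQ_eR (κ := κ), ← hB, DQ_ap, DQ_eR]
  obtain ⟨b, hb⟩ := exists_iso (DQ d) B hBi hBq
  refine ⟨((⟨a, σ⟩ : Wr (MM F) κ), b), ?_⟩
  apply ap_ext
  intro v
  rw [decomp v, map_add, map_add, map_sum, map_sum]
  congr 1
  · refine Finset.sum_congr rfl fun i _ => ?_
    rw [psi_emb, hA]
    congr 1
    exact ha (σ i) _
  · rw [hB]
    refine ext_pr (fun j => ?_) ?_
    · rw [pr_psi, pr_eR, pr_eR, Matrix.mulVec_zero]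
    · rw [pR_psi, pR_eR, pR_eR]
      exact hb _

/-! ### Sums of planes and the elements with `(x² + 1)(x - 1) = 0` -/

/-- Sums of planes. -/
def PS (F : Type*) [Field F] (ρ : Type) [Fintype ρ] [DecidableEq ρ] (I : Finset κ) :
    Submodule F ((κ × Fin 2) ⊕ ρ → F) where
  carrier := {v | (∀ i, i ∉ I → pr i v = 0) ∧ pR v = 0}
  add_mem' := by
    rintro v w ⟨h1, h2⟩ ⟨h3, h4⟩
    exact ⟨fun i hi => by rw [pr_add, h1 i hi, h3 i hi, add_zero], by rw [pR_add, h2, h4, add_zero]⟩
  zero_mem' := ⟨fun _ _ => rfl, rfl⟩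
  smul_mem' := by
    rintro c v ⟨h1, h2⟩
    exact ⟨fun i hi => by rw [pr_smul, h1 i hi, smul_zero], by rw [pR_smul, h2, smul_zero]⟩

theorem emb_mem_PS {I : Finset κ} {i : κ} (hi : i ∈ I) (w : Fin 2 → F) :
    (emb i w : (κ × Fin 2) ⊕ ρ → F) ∈ PS F ρ I := by
  refine ⟨fun j hj => ?_, rfl⟩
  rw [pr_emb, if_neg]
  rintro rfl
  exact hj hi

theorem mem_PS_singleton {i : κ} {v : (κ × Fin 2) ⊕ ρ → F} (h : v ∈ PS F ρ {i}) : v = emb i (pr i v) := by
  refine ext_pr (fun j => ?_) ?_
  · rw [pr_emb]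
    split_ifs with hj
    · rw [hj]
    · exact h.1 j (by simpa using hj)
  · rw [h.2, pR_emb]

theorem PS_le {I : Finset κ} {W : Submodule F ((κ × Fin 2) ⊕ ρ → F)} (h : ∀ i ∈ I, ∀ w, emb i w ∈ W) :
    PS F ρ I ≤ W := by
  intro v hv
  have h1 : v = ∑ i, emb i (pr i v) := by
    have h3 := decomp v
    have e : (eR (0 : ρ → F) : (κ × Fin 2) ⊕ ρ → F) = 0 := ext_pr (fun _ => rfl) rfl
    rwa [hv.2, e, add_zero] at h3
  rw [h1]
  refine Submodule.sum_mem _ fun i _ => ?_
  by_cases hi : i ∈ I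
  · exact h i hi _
  · rw [hv.1 i hi]
    have e : (emb i 0 : (κ × Fin 2) ⊕ ρ → F) = 0 := by
      refine ext_pr (fun j => ?_) rfl
      rw [pr_emb]
      split_ifs <;> rfl
    rw [e]
    exact Submodule.zero_mem _

theorem PS_inf (I J : Finset κ) : PS F ρ I ⊓ PS F ρ J = PS F ρ (I ∩ J) := by
  ext v
  constructor
  · rintro ⟨h1, h2⟩
    refine ⟨fun i hi => ?_, h1.2⟩
    rw [Finset.mem_inter, not_and_or] at hi
    rcases hi with hi | hi
    · exact h1.1 i hi
    · exact h2.1 i hi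
  · rintro ⟨h1, h2⟩
    exact ⟨⟨fun i hi => h1 i fun h => hi (Finset.mem_inter.1 h).1, h2⟩,
      ⟨fun i hi => h1 i fun h => hi (Finset.mem_inter.1 h).2, h2⟩⟩

theorem card_PS [Fintype F] (I : Finset κ) :
    Nat.card (PS F ρ I) = Fintype.card F ^ (2 * I.card) := by
  have e : PS F ρ I ≃ (I → Fin 2 → F) :=
    { toFun := fun v i => pr i.1 v.1
      invFun := fun f => ⟨fun p => Sum.elim (fun q : κ × Fin 2 => if h : q.1 ∈ I then f ⟨q.1, h⟩ q.2 else 0)
        (fun _ : ρ => 0) p, ⟨fun i hi => by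
          funext s
          change (if h : i ∈ I then f ⟨i, h⟩ s else 0) = 0
          rw [dif_neg hi], rfl⟩⟩
      left_inv := by
        rintro ⟨v, hv⟩
        apply Subtype.ext
        refine ext_pr (fun i => ?_) ?_
        · funext s
          change (if h : i ∈ I then pr i v s else 0) = pr i v s
          by_cases h : i ∈ I
          · rw [dif_pos h]
          · rw [dif_neg h, hv.1 i h]
            rfl
        · exact hv.2.symm
      right_inv := by
        intro f
        funext i s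
        change (if h : i.1 ∈ I then f ⟨i.1, h⟩ s else 0) = f i s
        rw [dif_pos i.2] }
  rw [Nat.card_congr e, Nat.card_fun, Nat.card_fun]
  simp only [Nat.card_eq_fintype_card, Fintype.card_fin, Fintype.card_coe]
  rw [← pow_mul]

/-- The commutator space. -/
def Vx {d : ρ → F} (g : OO κ d) : Submodule F ((κ × Fin 2) ⊕ ρ → F) := LinearMap.range (ap g - LinearMap.id)

/-- `(g² + 1)(g - 1) = 0`. -/
def Sq {d : ρ → F} (g : OO κ d) : Prop := ∀ v, ap g (ap g (ap g v)) + ap g v = ap g (ap g v) + v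

theorem Vx_conj {d : ρ → F} (h g : OO κ d) : Vx (h * g * h⁻¹) = (Vx g).map (ap h) := by
  ext v
  constructor
  · rintro ⟨w, rfl⟩
    refine ⟨ap g (ap h⁻¹ w) - ap h⁻¹ w, ⟨ap h⁻¹ w, rfl⟩, ?_⟩
    rw [LinearMap.sub_apply, map_sub, ap_mul, ap_mul, LinearMap.id_apply, ap_ap_inv]
  · rintro ⟨_, ⟨w, rfl⟩, rfl⟩
    refine ⟨ap h w, ?_⟩
    rw [LinearMap.sub_apply, LinearMap.sub_apply, map_sub, ap_mul, ap_mul, LinearMap.id_apply, LinearMap.id_apply,
      ap_inv_ap]

theorem Sq_conj {d : ρ → F} (h : OO κ d) {g : OO κ d} (hg : Sq g) : Sq (h * g * h⁻¹) := by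
  intro v
  have h1 := congrArg (ap h) (hg (ap h⁻¹ v))
  rw [map_add, map_add, ap_ap_inv] at h1
  simp only [ap_mul, ap_inv_ap]
  exact h1

theorem mem_Vx {d : ρ → F} (h2 : (2 : F) ≠ 0) {g : OO κ d} {v : (κ × Fin 2) ⊕ ρ → F}
    (h : ap g (ap g v) = -v) : v ∈ Vx g := by
  refine ⟨(2 : F)⁻¹ • (-(ap g v) - v), ?_⟩
  rw [LinearMap.sub_apply, LinearMap.id_apply, map_smul, map_sub, map_neg, h, ← smul_sub]
  have e : - -v - ap g v - (-ap g v - v) = (2 : F) • v := by
    rw [two_smul]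
    abel
  rw [e, smul_smul, inv_mul_cancel₀ h2, one_smul]

end Cfsg.Agent.H803.OmWreath
end

-- part: H803/OmFrame
section
/-!
# The frame of planes is determined by the 2-subgroup (helper803)

* `vx_psi` : the commutator space of an element `x` of the wreath product with `(x² + 1)(x - 1) = 0` is a sum of planes;
* `exists_perm` : an isometry which maps sums of two planes to sums of two planes permutes the planes;
* `norm_mem` : the normaliser of `psi (sub D S E) ∩ ker chi` is contained in `psi (sub D S E)`.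
-/

set_option autoImplicit false
set_option linter.unusedSectionVars false

namespace Cfsg.Agent.H803.OmFrame

open Matrix Subgroup QuadraticMap Equiv
open Cfsg.Agent.H637 Cfsg.Agent.H803.WrNorm Cfsg.Agent.H803.OmPlane Cfsg.Agent.H803.OmWreath
open Cfsg.Agent.ClassicalGeometry.Reflection

variable {F : Type*} [Field F] {κ ρ : Type} [Fintype κ] [DecidableEq κ] [Fintype ρ] [DecidableEq ρ]

theorem one'_ne' (i : Fin 2) : one' (Fin 2) F i ≠ 0 := one_ne_zero

theorem mulVec_left_eq_zero {a : MM F} {w : Fin 2 → F}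
    (h : ((a : GL (Fin 2) F) : Matrix (Fin 2) (Fin 2) F) *ᵥ w = 0) : w = 0 := by
  have h1 : (((a⁻¹ : MM F) : GL (Fin 2) F) : Matrix (Fin 2) (Fin 2) F) *ᵥ
      (((a : GL (Fin 2) F) : Matrix (Fin 2) (Fin 2) F) *ᵥ w) = w := by
    rw [← coe_mul_mulVec, inv_mul_cancel]
    exact Matrix.one_mulVec _
  rw [← h1, h, Matrix.mulVec_zero]

/-- Moved planes. -/
theorem sq_moved {d : ρ → F} {x : Wr (MM F) κ × CC d} (hx : Sq (psi κ d x)) {i : κ}
    (hi : x.1.right i ≠ i) (w : Fin 2 → F) :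
    ap (psi κ d x) (ap (psi κ d x) (emb i w)) = -emb i w := by
  have h1 := hx (emb i w)
  rw [psi_emb, psi_emb, psi_emb] at h1
  have h2 : x.1.right (x.1.right i) = i := by
    by_contra hne
    -- the component at `σ i`
    have h3 := hx (emb i (fun _ => 1))
    rw [psi_emb, psi_emb, psi_emb] at h3
    have h4 := congrArg (pr (x.1.right i)) h3
    rw [pr_add, pr_add, pr_emb, pr_emb, pr_emb, pr_emb, if_pos rfl, if_neg hi,
      if_neg (fun h => hne (x.1.right.injective h).symm), if_neg (fun h => hi (x.1.right.injective h).symm),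
      zero_add, zero_add] at h4
    have h5 := mulVec_left_eq_zero h4
    exact one_ne_zero (congrFun h5 0)
  have h3 := congrArg (pr i) h1
  rw [pr_add, pr_add, pr_emb, pr_emb, pr_emb, pr_emb, if_pos rfl, if_neg (Ne.symm hi),
    if_neg (fun h => hi (by rw [h2] at h; exact h.symm)), if_pos h2.symm, zero_add] at h3
  rw [psi_emb, psi_emb, ← sub_eq_zero, sub_neg_eq_add]
  refine ext_pr (fun j => ?_) ?_
  · rw [pr_add, pr_emb, pr_emb, h2]
    by_cases hj : j = i
    · rw [if_pos hj, if_pos hj, ← h2, h2]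
      rw [h2] at h3
      exact h3.symm
    · rw [if_neg hj, if_neg hj, add_zero]
      rfl
  · rw [pR_add, pR_emb, pR_emb, add_zero]
    rfl

/-- Fixed planes. -/
theorem sq_fixed (h2 : (2 : F) ≠ 0) {d : ρ → F} {x : Wr (MM F) κ × CC d} (hx : Sq (psi κ d x)) {i : κ}
    (hi : x.1.right i = i) (hi' : x.1.left i ≠ 1) (w : Fin 2 → F) :
    ap (psi κ d x) (ap (psi κ d x) (emb i w)) = -emb i w := by
  set A : Matrix (Fin 2) (Fin 2) F := ((x.1.left i : GL (Fin 2) F) : Matrix (Fin 2) (Fin 2) F) with hA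
  have h1 : ∀ w, A *ᵥ (A *ᵥ (A *ᵥ w)) + A *ᵥ w = A *ᵥ (A *ᵥ w) + w := by
    intro w
    have h3 := congrArg (pr i) (hx (emb i w))
    simp only [psi_emb, hi, pr_add, pr_emb, if_true] at h3
    exact h3
  have h3 : (A * A + 1) * (A - 1) = 0 := by
    apply Matrix.mulVec_injective
    funext w
    rw [Matrix.zero_mulVec, ← Matrix.mulVec_mulVec, Matrix.sub_mulVec, Matrix.one_mulVec, Matrix.mulVec_sub,
      Matrix.add_mulVec, Matrix.add_mulVec, ← Matrix.mulVec_mulVec, ← Matrix.mulVec_mulVec, Matrix.one_mulVec,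
      Matrix.one_mulVec, h1 w, sub_self]
  rcases plane_sq h2 A (det_sq h2 _ one'_ne' (x.1.left i).2) h3 with h4 | h4
  · exfalso
    apply hi'
    apply Subtype.ext
    apply Units.ext
    exact h4
  · rw [psi_emb, psi_emb, hi, hi]
    have h5 : A *ᵥ (A *ᵥ w) = -w := by
      rw [Matrix.mulVec_mulVec, h4, Matrix.neg_mulVec, Matrix.one_mulVec]
    rw [← hA, h5]
    have e : ((-1 : F) • w) = -w := by rw [neg_smul, one_smul]
    rw [← e, emb_smul, neg_smul, one_smul]

/-- The support. -/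
noncomputable def supp {d : ρ → F} (x : Wr (MM F) κ × CC d) : Finset κ := by
  classical exact Finset.univ.filter (fun i => x.1.right i ≠ i ∨ x.1.left i ≠ 1)

theorem mem_supp {d : ρ → F} {x : Wr (MM F) κ × CC d} {i : κ} :
    i ∈ supp x ↔ x.1.right i ≠ i ∨ x.1.left i ≠ 1 := by
  classical
  rw [supp, Finset.mem_filter]
  exact ⟨fun h => h.2, fun h => ⟨Finset.mem_univ _, h⟩⟩

/-- The condition on the rest: no isometry of square `-1`. -/
def NoSq (d : ρ → F) : Prop :=
  ∀ b : CC d, (((b : GL ρ F) : Matrix ρ ρ F) * ((b : GL ρ F) : Matrix ρ ρ F) + 1) *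
    (((b : GL ρ F) : Matrix ρ ρ F) - 1) = 0 → ((b : GL ρ F) : Matrix ρ ρ F) = 1

theorem vx_psi (h2 : (2 : F) ≠ 0) {d : ρ → F} (hd : NoSq d) {x : Wr (MM F) κ × CC d}
    (hx : Sq (psi κ d x)) : Vx (psi κ d x) = PS F ρ (supp x) := by
  apply le_antisymm
  · rintro _ ⟨v, rfl⟩
    rw [LinearMap.sub_apply, LinearMap.id_apply]
    have hsub : ∀ i, pr i (ap (psi κ d x) v - v) = pr i (ap (psi κ d x) v) - pr i v := fun _ => rfl
    have hsubR : pR (ap (psi κ d x) v - v) = pR (ap (psi κ d x) v) - pR v := rfl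
    refine ⟨fun i hi => ?_, ?_⟩
    · rw [mem_supp, not_or, not_not, not_not] at hi
      rw [hsub, pr_psi, hi.2]
      have h3 : x.1.right.symm i = i := by rw [Equiv.symm_apply_eq]; exact hi.1.symm
      rw [h3, sub_eq_zero]
      exact Matrix.one_mulVec _
    · have h1 : ∀ w, ((x.2 : GL ρ F) : Matrix ρ ρ F) *ᵥ (((x.2 : GL ρ F) : Matrix ρ ρ F) *ᵥ
          (((x.2 : GL ρ F) : Matrix ρ ρ F) *ᵥ w)) + ((x.2 : GL ρ F) : Matrix ρ ρ F) *ᵥ w =
          ((x.2 : GL ρ F) : Matrix ρ ρ F) *ᵥ (((x.2 : GL ρ F) : Matrix ρ ρ F) *ᵥ w) + w := by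
        intro w
        have h3 := congrArg pR (hx (eR w))
        rw [pR_add, pR_add, pR_psi, pR_psi, pR_psi, pR_eR] at h3
        exact h3
      have h3 := hd x.2 (by
        apply Matrix.mulVec_injective
        funext w
        rw [Matrix.zero_mulVec, ← Matrix.mulVec_mulVec, Matrix.sub_mulVec, Matrix.one_mulVec, Matrix.mulVec_sub,
          Matrix.add_mulVec, Matrix.add_mulVec, ← Matrix.mulVec_mulVec, ← Matrix.mulVec_mulVec, Matrix.one_mulVec,
          Matrix.one_mulVec, h1 w, sub_self])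
      rw [hsubR, pR_psi, h3, Matrix.one_mulVec, sub_self]
  · apply PS_le
    intro i hi w
    apply mem_Vx h2
    by_cases h : x.1.right i = i
    · exact sq_fixed h2 hx h ((mem_supp.1 hi).resolve_left (not_not.2 h)) w
    · exact sq_moved hx h w

/-! ### The rotations of order four -/

/-- The rotation. -/
def rotM (F : Type*) [Field F] : Matrix (Fin 2) (Fin 2) F := !![0, -1; 1, 0]

theorem rotM_sq : rotM F * rotM F = -1 := by
  ext i j
  (revert i j; simp only [rotM, Matrix.mul_apply, Fin.sum_univ_two, _root_.Fin.forall_fin_succ, _root_.Matrix.of_apply, _root_.Matrix.cons_val', _root_.Matrix.cons_val_fin_one, Fin.isValue, _root_.Matrix.cons_val_zero, _root_.Matrix.cons_val_one, _root_.Matrix.neg_apply, _root_.MulZeroClass.mul_zero, _root_.mul_one, _root_.zero_add, _root_.Matrix.cons_val_succ, _root_.mul_neg, _root_.add_zero, _root_.neg_inj, _root_.IsEmpty.forall_iff, _root_.and_true, _root_.Matrix.one_apply_eq, Nat.reduceAdd, _root_.Fin.succ_zero_eq_one,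 _root_.ne_eq, _root_.zero_ne_one, _root_.not_false_eq_true, _root_.Matrix.one_apply_ne, _root_.and_self, _root_.Fin.succ_ne_zero, _root_.neg_zero, _root_.true_and])

theorem exists_rot : ∃ r : MM F, ((r : GL (Fin 2) F) : Matrix (Fin 2) (Fin 2) F) = rotM F := by
  have hdet : (rotM F).det ≠ 0 := by
    rw [rotM, Matrix.det_fin_two_of]
    simp
  refine ⟨⟨Matrix.GeneralLinearGroup.mkOfDetNeZero _ hdet, ?_⟩, rfl⟩
  rw [mem_isometryGroup_iff]
  intro v
  change DQ _ (rotM F *ᵥ v) = _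
  rw [DQ_apply, DQ_apply, Fin.sum_univ_two, Fin.sum_univ_two]
  simp only [rotM, one', Matrix.mulVec, dotProduct, Fin.sum_univ_two, _root_.Fin.isValue, _root_.Matrix.of_apply, _root_.Matrix.cons_val', _root_.Matrix.cons_val_fin_one, _root_.Matrix.cons_val_zero, _root_.MulZeroClass.zero_mul, _root_.Matrix.cons_val_one, _root_.neg_mul, _root_.one_mul, _root_.zero_add, _root_.mul_neg, _root_.neg_neg, _root_.add_zero]
  ring

/-- The rotation, as an isometry. -/
noncomputable def rot (F : Type*) [Field F] : MM F := exists_rot.choose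

theorem coe_rot : (((rot F : MM F) : GL (Fin 2) F) : Matrix (Fin 2) (Fin 2) F) = rotM F :=
  exists_rot.choose_spec

theorem rot_sq (w : Fin 2 → F) : (((rot F : MM F) : GL (Fin 2) F) : Matrix (Fin 2) (Fin 2) F) *ᵥ
    ((((rot F : MM F) : GL (Fin 2) F) : Matrix (Fin 2) (Fin 2) F) *ᵥ w) = -w := by
  rw [coe_rot, Matrix.mulVec_mulVec, rotM_sq, Matrix.neg_mulVec, Matrix.one_mulVec]

theorem rot_ne_one : rot F ≠ 1 := by
  intro h
  have h1 := coe_rot (F := F)
  rw [h] at h1
  have h2 := congrFun (congrFun h1 0) 0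
  change (1 : Matrix (Fin 2) (Fin 2) F) 0 0 = rotM F 0 0 at h2
  rw [Matrix.one_apply_eq] at h2
  exact one_ne_zero h2

theorem rot_pow : (rot F) ^ 2 ^ 2 = 1 := by
  apply isometryGroup_ext
  intro w
  have e : (rot F) ^ 2 ^ 2 = rot F * rot F * (rot F * rot F) := by
    rw [show (2 : ℕ) ^ 2 = 2 + 2 from rfl, pow_add, pow_two]
  rw [e, coe_mul_mulVec, coe_mul_mulVec, coe_mul_mulVec, rot_sq, rot_sq, neg_neg]
  exact (Matrix.one_mulVec _).symm

/-- The product of the rotations in two planes. -/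
noncomputable def rr (κ : Type) [Fintype κ] [DecidableEq κ] (d : ρ → F) (i j : κ) : Wr (MM F) κ × CC d :=
  sg (CC d) i (rot F) * sg (CC d) j (rot F)

theorem rr_right (d : ρ → F) (i j : κ) : (rr κ d i j).1.right = 1 := rfl

theorem rr_snd (d : ρ → F) (i j : κ) : (rr κ d i j).2 = 1 := mul_one _

theorem rr_left (d : ρ → F) {i j : κ} (hij : i ≠ j) (k : κ) :
    (rr κ d i j).1.left k = if k = i ∨ k = j then rot F else 1 := by
  have e3 : (rr κ d i j).1.left k = (sg (CC d) i (rot F)).1.left k * (sg (CC d) j (rot F)).1.left k := rfl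
  rw [e3, sg_left, sg_left]
  by_cases hi : k = i
  · rw [if_pos hi, if_neg (fun h => hij (hi.symm.trans h)), if_pos (Or.inl hi), mul_one]
  · rw [if_neg hi, one_mul]
    by_cases hj : k = j
    · rw [if_pos hj, if_pos (Or.inr hj)]
    · rw [if_neg hj, if_neg]
      rintro (h | h)
      · exact hi h
      · exact hj h

theorem supp_rr (d : ρ → F) {i j : κ} (hij : i ≠ j) : supp (rr κ d i j) = {i, j} := by
  ext k
  rw [mem_supp, rr_left d hij, rr_right]
  simp only [Perm.coe_one, id_eq, ne_eq, not_true_eq_false, false_or, Finset.mem_insert, Finset.mem_singleton]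
  by_cases h : k = i ∨ k = j
  · rw [if_pos h]
    exact ⟨fun _ => h, fun _ => rot_ne_one⟩
  · rw [if_neg h]
    exact ⟨fun h' => absurd rfl h', fun h' => absurd h' h⟩

theorem pr_rr (d : ρ → F) {i j : κ} (hij : i ≠ j) (k : κ) (v : (κ × Fin 2) ⊕ ρ → F) :
    pr k (ap (psi κ d (rr κ d i j)) v) =
      ((((if k = i ∨ k = j then rot F else 1 : MM F)) : GL (Fin 2) F) : Matrix (Fin 2) (Fin 2) F) *ᵥ pr k v := by
  rw [pr_psi, rr_left d hij]
  rfl

theorem sq_rr (d : ρ → F) {i j : κ} (hij : i ≠ j) : Sq (psi κ d (rr κ d i j)) := by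
  intro v
  refine ext_pr (fun k => ?_) ?_
  · rw [pr_add, pr_add, pr_rr d hij, pr_rr d hij, pr_rr d hij]
    split_ifs with h
    · rw [rot_sq, rot_sq, neg_add_cancel, neg_add_cancel]
    · have e2 : ∀ w : Fin 2 → F, ((((1 : MM F) : GL (Fin 2) F)) : Matrix (Fin 2) (Fin 2) F) *ᵥ w = w :=
        fun w => Matrix.one_mulVec _
      rw [e2, e2, e2]
  · rw [pR_add, pR_add, pR_psi, pR_psi, pR_psi, rr_snd]
    have e2 : ∀ w : ρ → F, ((((1 : CC d) : GL ρ F)) : Matrix ρ ρ F) *ᵥ w = w :=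
      fun w => Matrix.one_mulVec _
    rw [e2, e2, e2]

/-! ### Isometries permuting the sums of two planes -/

theorem card_of_PS_eq [Fintype F] {d : ρ → F} (g : OO κ d) {I J : Finset κ}
    (h : (PS F ρ I).map (ap g) = PS F ρ J) : I.card = J.card := by
  have h1 : Nat.card ((PS F ρ I).map (ap g)) = Nat.card (PS F ρ I) :=
    Nat.card_congr (Submodule.equivMapOfInjective (ap g) (ap_injective g) (PS F ρ I)).symm.toEquiv
  rw [h, card_PS, card_PS] at h1
  have h2 := Nat.pow_right_injective (Fintype.one_lt_card (α := F)) h1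
  omega

theorem PS_singleton_injective {i j : κ} (h : PS F ρ {i} = PS F ρ ({j} : Finset κ)) : i = j := by
  by_contra hne
  have h1 : (emb i (fun _ => 1) : (κ × Fin 2) ⊕ ρ → F) ∈ PS F ρ ({j} : Finset κ) := by
    rw [← h]
    exact emb_mem_PS (Finset.mem_singleton_self i) _
  have h2 := h1.1 i (by simpa using hne)
  rw [pr_emb, if_pos rfl] at h2
  exact one_ne_zero (congrFun h2 0)

theorem exists_perm [Fintype F] (hk : 3 ≤ Fintype.card κ) {d : ρ → F} (g : OO κ d)
    (hg : ∀ i j : κ, i ≠ j → ∃ J : Finset κ, (PS F ρ {i, j}).map (ap g) = PS F ρ J) :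
    ∃ σ : Perm κ, ∀ i, (PS F ρ {i}).map (ap g) = PS F ρ {σ i} := by
  have h1 : ∀ i : κ, ∃ i', (PS F ρ {i}).map (ap g) = PS F ρ {i'} := by
    intro i
    obtain ⟨j, hj⟩ : ∃ j, j ≠ i := by
      have : Nontrivial κ := Fintype.one_lt_card_iff_nontrivial.1 (by omega)
      exact exists_ne i
    obtain ⟨l, hl⟩ : ∃ l, l ∉ ({i, j} : Finset κ) := by
      by_contra hcon
      push Not at hcon
      have h3 : (Finset.univ : Finset κ) ⊆ {i, j} := fun x _ => hcon x
      have h4 := Finset.card_le_card h3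
      rw [Finset.card_univ] at h4
      have h5 := Finset.card_le_two (a := i) (b := j)
      omega
    simp only [Finset.mem_insert, Finset.mem_singleton, not_or] at hl
    obtain ⟨J, hJ⟩ := hg i j hj.symm
    obtain ⟨K, hK⟩ := hg i l (Ne.symm hl.1)
    have h3 : ({i} : Finset κ) = {i, j} ∩ {i, l} := by
      ext x
      simp only [Finset.mem_inter, Finset.mem_insert, Finset.mem_singleton]
      constructor
      · exact fun h => ⟨Or.inl h, Or.inl h⟩
      · rintro ⟨h | h, h' | h'⟩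
        · exact h
        · exact h
        · exact h'
        · exact absurd (h'.symm.trans h) hl.2
    have h4 : (PS F ρ {i}).map (ap g) = PS F ρ (J ∩ K) := by
      rw [h3, ← PS_inf, Submodule.map_inf _ (ap_injective g), hJ, hK, PS_inf]
    have h5 := card_of_PS_eq g h4
    rw [Finset.card_singleton] at h5
    obtain ⟨i', hi'⟩ := Finset.card_eq_one.1 h5.symm
    exact ⟨i', by rw [h4, hi']⟩
  choose f hf using h1
  have hinj : Function.Injective f := by
    intro i j hij
    apply PS_singleton_injective (F := F) (ρ := ρ)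
    apply Submodule.map_injective_of_injective (ap_injective g)
    rw [hf, hf, hij]
  exact ⟨Equiv.ofBijective f (Finite.injective_iff_bijective.1 hinj), hf⟩

/-! ### The spinor norm -/

section Chi

variable [Fintype F]

theorem sg_reflIso (d : ρ → F) (i : κ) (v : Fin 2 → F) (hv : DQ (one' (Fin 2) F) v ≠ 0)
    (hv' : DQ (cf κ d) (emb i v) ≠ 0) :
    psi κ d (sg (CC d) i (reflIso (DQ (one' (Fin 2) F)) v hv)) = reflIso (DQ (cf κ d)) (emb i v) hv' := by
  apply ap_ext
  intro w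
  have e1 : ap (reflIso (DQ (cf κ d)) (emb i v) hv') w =
      w - ((DQ (cf κ d) (emb i v))⁻¹ * polar (⇑(DQ (cf κ d))) (emb i v) w) • emb i v := by
    rw [ap_apply, coe_reflIso, reflectionMatrix_mulVec]
  rw [e1, DQ_emb, polar_emb]
  have hsub : ∀ (j : κ) (a b : (κ × Fin 2) ⊕ ρ → F), pr j (a - b) = pr j a - pr j b := fun _ _ _ => rfl
  have hsubR : ∀ (a b : (κ × Fin 2) ⊕ ρ → F), pR (a - b) = pR a - pR b := fun _ _ => rfl
  refine ext_pr (fun j => ?_) ?_
  · rw [pr_psi, sg_left, sg_right, hsub, pr_smul, pr_emb]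
    by_cases hj : j = i
    · subst hj
      rw [if_pos rfl, if_pos rfl, coe_reflIso, reflectionMatrix_mulVec]
      rfl
    · rw [if_neg hj, if_neg hj, smul_zero, sub_zero]
      exact Matrix.one_mulVec _
  · rw [pR_psi, hsubR, pR_smul, pR_emb, smul_zero, sub_zero, sg_snd]
    exact Matrix.one_mulVec _

/-- All values of `chi` on reflections are attained on reflections of the planes. -/
theorem exists_sg_chi (h2 : (2 : F) ≠ 0) (d : ρ → F) (i : κ) : ∀ z ∈ RR F, ∃ a : MM F, a ^ 2 = 1 ∧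
    (chi (cf κ d)) (psi κ d (sg (CC d) i a)) = z := by
  classical
  have hQ := DQ_nondegenerate h2 (one' (Fin 2) F) one'_ne'
  obtain ⟨⟨v, hv⟩, w, hw0, hw⟩ := ClassicalGeometry.Universal.exists_isSquare_and_not h2
    (DQ (one' (Fin 2) F)) hQ (by rw [Fintype.card_fin])
  rintro z (rfl | hz)
  · have hv0 : DQ (one' (Fin 2) F) v ≠ 0 := by rw [hv]; exact one_ne_zero
    have hv' : DQ (cf κ d) (emb i v) ≠ 0 := by rw [DQ_emb]; exact hv0
    refine ⟨reflIso (DQ (one' (Fin 2) F)) v hv0, by rw [pow_two, reflIso_mul_self], ?_⟩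
    rw [sg_reflIso d i v hv0 hv', chi_reflIso h2, DQ_emb, if_pos (by rw [hv]; exact ⟨1, by ring⟩)]
  · rw [Set.mem_singleton_iff] at hz
    have hw' : DQ (cf κ d) (emb i w) ≠ 0 := by rw [DQ_emb]; exact hw0
    refine ⟨reflIso (DQ (one' (Fin 2) F)) w hw0, by rw [pow_two, reflIso_mul_self], ?_⟩
    rw [sg_reflIso d i w hw0 hw', chi_reflIso h2, DQ_emb, if_neg hw, hz]

theorem sq_of_mem_closure {z : Fˣ × ℤˣ} (hz : z ∈ _root_.Subgroup.closure (RR F)) : z * z = 1 := by
  induction hz using closure_induction with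
  | mem z hz =>
    rcases hz with rfl | hz
    · exact Prod.ext (by simp) (by simp)
    · rw [Set.mem_singleton_iff] at hz
      subst hz
      exact Prod.ext (by simp) (by simp)
  | one => exact one_mul 1
  | mul x y _ _ hx hy => rw [mul_mul_mul_comm, hx, hy, one_mul]
  | inv x _ hx => rw [← mul_inv, hx, inv_one]

/-- The character on the wreath product. -/
noncomputable def chw (κ : Type) [Fintype κ] [DecidableEq κ] (d : ρ → F) :
    Wr (MM F) κ × CC d →* Fˣ × ℤˣ := (chi (cf κ d)).comp (psi κ d)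

theorem chw_sg (d : ρ → F) (i j : κ) (a : MM F) : chw κ d (sg (CC d) i a) = chw κ d (sg (CC d) j a) := by
  have e : sg (CC d) j a = ((⟨1, _root_.Equiv.swap i j⟩ : Wr (MM F) κ), (1 : CC d)) * sg (CC d) i a *
      ((⟨1, _root_.Equiv.swap i j⟩ : Wr (MM F) κ), (1 : CC d))⁻¹ := by
    refine Prod.ext (SemidirectProduct.ext ?_ ?_) ?_
    · funext k
      have e1 : (((⟨1, _root_.Equiv.swap i j⟩ : Wr (MM F) κ), (1 : CC d)) * sg (CC d) i a *
        ((⟨1, _root_.Equiv.swap i j⟩ : Wr (MM F) κ), (1 : CC d))⁻¹).1.left k =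
          1 * (sg (CC d) i a).1.left ((_root_.Equiv.swap i j).symm k) * 1⁻¹ := rfl
      rw [e1, sg_left, sg_left, one_mul, inv_one, mul_one]
      by_cases hk : k = j
      · subst hk
        rw [if_pos rfl, if_pos]
        rw [symm_swap, swap_apply_right]
      · rw [if_neg hk, if_neg]
        intro h
        apply hk
        rw [Equiv.symm_apply_eq, swap_apply_left] at h
        exact h
    · have e1 : (((⟨1, _root_.Equiv.swap i j⟩ : Wr (MM F) κ), (1 : CC d)) * sg (CC d) i a *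
        ((⟨1, _root_.Equiv.swap i j⟩ : Wr (MM F) κ), (1 : CC d))⁻¹).1.right = _root_.Equiv.swap i j * 1 * (_root_.Equiv.swap i j)⁻¹ := rfl
      rw [e1, mul_one, mul_inv_cancel]
      rfl
    · have e1 : (((⟨1, _root_.Equiv.swap i j⟩ : Wr (MM F) κ), (1 : CC d)) * sg (CC d) i a *
        ((⟨1, _root_.Equiv.swap i j⟩ : Wr (MM F) κ), (1 : CC d))⁻¹).2 = (1 * 1 * 1⁻¹ : CC d) := rfl
      rw [e1, sg_snd]
      simp
  rw [e, map_mul, map_mul, map_inv, mul_comm (chw κ d _) (chw κ d (sg (CC d) i a)), mul_inv_cancel_right]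

theorem chw_rr (h2 : (2 : F) ≠ 0) (d : ρ → F) (hd : ∀ r, d r ≠ 0) (i j : κ) : chw κ d (rr κ d i j) = 1 := by
  rw [rr, map_mul, chw_sg d j i]
  exact sq_of_mem_closure (chi_mem_closure h2 _ (cf_ne d hd) _)

/-- **The normaliser.** -/
theorem norm_mem (h2 : (2 : F) ≠ 0) (hk : 3 ≤ Fintype.card κ) (d : ρ → F) (hd : ∀ r, d r ≠ 0) (hR : NoSq d)
    (D : Subgroup (MM F)) (S : Subgroup (Perm κ)) (E : Subgroup (CC d)) (hrot : rot F ∈ D)
    (hD : ∀ m : MM F, (∀ d ∈ D, m * d * m⁻¹ ∈ D) → m ∈ D)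
    (hS : ∀ m : Perm κ, (∀ d ∈ S, m * d * m⁻¹ ∈ S) → m ∈ S)
    (hE : ∀ m : CC d, (∀ d ∈ E, m * d * m⁻¹ ∈ E) → m ∈ E)
    (hRR : ∀ z ∈ RR F, ∀ i : κ, ∃ a ∈ D, chw κ d (sg (CC d) i a) = z) (g : OO κ d)
    (hg : ∀ x ∈ sub D S E, chw κ d x = 1 → ∃ y ∈ sub D S E, g * psi κ d x * g⁻¹ = psi κ d y) :
    ∃ y ∈ sub D S E, g = psi κ d y := by
  -- the planes are permuted
  have h1 : ∀ i j : κ, i ≠ j → ∃ J : Finset κ, (PS F ρ {i, j}).map (ap g) = PS F ρ J := by
    intro i j hij
    obtain ⟨y, hy, hgy⟩ := hg (rr κ d i j) (mul_mem (sg_mem i hrot) (sg_mem j hrot)) (chw_rr h2 d hd i j)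
    refine ⟨supp y, ?_⟩
    rw [← vx_psi h2 hR (x := y) (by rw [← hgy]; exact Sq_conj g (sq_rr d hij)), ← hgy, Vx_conj,
      vx_psi h2 hR (sq_rr d hij), supp_rr d hij]
  obtain ⟨σ, hσ⟩ := exists_perm hk g h1
  obtain ⟨x, rfl⟩ := exists_psi_eq h2 d g σ (fun i w => by
    have h3 : ap g (emb i w) ∈ (PS F ρ {i}).map (ap g) :=
      ⟨_, emb_mem_PS (Finset.mem_singleton_self i) w, rfl⟩
    rw [hσ] at h3
    exact ⟨_, mem_PS_singleton h3⟩)
  refine ⟨x, ?_, rfl⟩
  have : Nontrivial κ := Fintype.one_lt_card_iff_nontrivial.1 (by omega)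
  refine mem_sub_of_norm (chw κ d) D S E hD hS hE ?_ x ?_
  · intro y _ i
    have h3 : chw κ d y ∈ _root_.Subgroup.closure (RR F) := chi_mem_closure h2 _ (cf_ne d hd) _
    have h4 : closure (RR F) ≤ D.map ((chw κ d).comp (sg (CC d) i)) := by
      rw [closure_le]
      intro z hz
      obtain ⟨a, ha, haz⟩ := hRR z hz i
      exact ⟨a, ha, haz⟩
    exact h4 h3
  · intro t ht ht1
    obtain ⟨y, hy, hgy⟩ := hg t ht ht1
    rw [← map_inv, ← map_mul, ← map_mul] at hgy
    rw [psi_injective d hgy]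
    exact hy

end Chi

end Cfsg.Agent.H803.OmFrame
end

private theorem dce_60183bb31b1e : _root_.True := by
  try have : _root_.True := by simp only [_root_.Cfsg.Agent.H803.OmWreath.emb.congr_simp]
  try have : _root_.True := by simp only [_root_.Cfsg.Agent.H803.OmFrame.supp.eq_1]
  try have : _root_.True := by simp only [_root_.Cfsg.Agent.H803.OmFrame.rotM.eq_1]
  try have : _root_.True := by simp only [_root_.Cfsg.Agent.H803.OmFrame.rr.eq_1]
  exact _root_.True.intro
end

-- part: H803/RowOmega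
section
prune_inst 0x2040004021a2020000000500900020244400009000200800c800084000012302000081010e901000004622004048000000000010000000000000040000000120808250042200810c66000f808084000000000000000000000000000000000000000000000
set_option linter.all false
open scoped Cfsg.Agent.FastGrp

/-!
# The Sylow 2-subgroups of `PΩ_n(q)`, `q` odd, `n ≥ 7`, are self-normalising (helper803)

* `SC X` : the commutator subgroup of `X` has a self-normalising 2-subgroup;
* `sc_even`, `sc_odd` : `SC` for the isometry groups of the nondegenerate forms of dimension `2 m ≥ 8` and `2 m + 1 ≥ 7`;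
* `self_odd`, `self_plus`, `self_minus` : the Sylow 2-subgroups of the groups `PΩ` are self-normalising;
* `row_omega_odd`, `row_omega_plus`, `row_omega_minus` : `RowTwo` for the groups `PΩ`.
-/

set_option autoImplicit false
set_option linter.unusedSectionVars false

namespace Cfsg.Agent.H803.RowOmega

open Matrix Subgroup QuadraticMap Equiv
open Cfsg.Agent.H637 Cfsg.Agent.H803.WrNorm Cfsg.Agent.H803.OmPlane Cfsg.Agent.H803.OmWreath
open Cfsg.Agent.H803.OmFrame
open Cfsg.Agent.ClassicalGeometry.Reflection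
open Cfsg.Agent.LieClassical.OmegaReindex

/-- The commutator subgroup has a self-normalising `2`-subgroup. -/
def SC (X : Type*) [Group X] : Prop :=
  ∃ T : Subgroup X, T ≤ commutator X ∧ (∀ t ∈ T, ∃ k : ℕ, t ^ 2 ^ k = 1) ∧
    ∀ g ∈ commutator X, (∀ t ∈ T, g * t * g⁻¹ ∈ T) → g ∈ T

theorem SC.congr {X Y : Type*} [Group X] [Group Y] (e : Y ≃* X) (h : SC Y) : SC X := by
  obtain ⟨T, h1, h2, h3⟩ := h
  have hc : commutator X = (commutator Y).map e.toMonoidHom := by
    rw [commutator_def, commutator_def, Subgroup.map_commutator, Subgroup.map_top_of_surjective _ e.surjective]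
  have hm : ∀ (U : Subgroup Y) (z : Y), e z ∈ U.map e.toMonoidHom ↔ z ∈ U := by
    intro U z
    constructor
    · rintro ⟨w, hw, he⟩
      exact (e.injective he) ▸ hw
    · exact fun h => ⟨z, h, rfl⟩
  refine ⟨T.map e.toMonoidHom, ?_, ?_, ?_⟩
  · rw [hc]
    exact Subgroup.map_mono h1
  · rintro _ ⟨t, ht, rfl⟩
    obtain ⟨k, hk⟩ := h2 t ht
    exact ⟨k, by rw [← map_pow, hk, map_one]⟩
  · intro g hg hgT
    obtain ⟨g, rfl⟩ := e.surjective g
    rw [hc, hm] at hg
    rw [hm]
    refine h3 g hg fun t ht => ?_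
    have := hgT (e t) ⟨t, ht, rfl⟩
    rwa [← map_inv, ← map_mul, ← map_mul, hm] at this

theorem SC.self {X : Type*} [Group X] [Finite X] (h : SC X)
    (S : Sylow 2 (commutator X ⧸ Subgroup.center (commutator X))) :
    normalizer ((S : Subgroup (commutator X ⧸ Subgroup.center (commutator X))) :
      Set (commutator X ⧸ Subgroup.center (commutator X))) ≤ S := by
  have : Fact (Nat.Prime 2) := ⟨Nat.prime_two⟩
  obtain ⟨T, h1, h2, h3⟩ := h
  refine H95.SelfNorm.quot_of_hom (commutator X).subtype (Subgroup.subtype_injective _) T ?_ h2 ?_ S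
  · rw [Subgroup.range_subtype]
    exact h1
  · intro x hx
    rw [Subgroup.range_subtype] at hx
    exact h3 x hx

section

variable {M C : Type*} [Group M] [Group C] {κ : Type*} [DecidableEq κ]

theorem isPGroup_sub [Fintype κ] [Finite M] [Finite C] {D : Subgroup M} {S : Subgroup (Perm κ)}
    {E : Subgroup C} (hD : IsPGroup 2 D) (hS : IsPGroup 2 S) (hE : IsPGroup 2 E) : IsPGroup 2 (sub D S E) := by
  have : Fact (Nat.Prime 2) := ⟨Nat.prime_two⟩
  obtain ⟨a, ha⟩ := IsPGroup.iff_card.1 hD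
  obtain ⟨b, hb⟩ := IsPGroup.iff_card.1 hS
  obtain ⟨c, hc⟩ := IsPGroup.iff_card.1 hE
  let e : sub D S E ≃ ((κ → D) × S) × E :=
    { toFun := fun x => ⟨⟨fun i => ⟨x.1.1.left i, x.2.1 i⟩, ⟨x.1.1.right, x.2.2.1⟩⟩, ⟨x.1.2, x.2.2.2⟩⟩
      invFun := fun y => ⟨(⟨fun i => (y.1.1 i : M), y.1.2⟩, y.2), ⟨fun i => (y.1.1 i).2, y.1.2.2, y.2.2⟩⟩
      left_inv := fun x => rfl
      right_inv := fun y => rfl }
  refine IsPGroup.of_card (n := a * Fintype.card κ + b + c) ?_
  rw [Nat.card_congr e, Nat.card_prod, Nat.card_prod, Nat.card_fun, ha, hb, hc, Nat.card_eq_fintype_card,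
    pow_add, pow_add, pow_mul]

end

section Field

variable {F : Type*} [Field F] [Fintype F]

theorem sc_main (hF : Odd (Fintype.card F)) {κ ρ : Type} [Fintype κ] [DecidableEq κ] [Fintype ρ] [DecidableEq ρ]
    (hk : 3 ≤ Fintype.card κ) (d : ρ → F) (hd : ∀ r, d r ≠ 0) (hR : NoSq d) (hE : SN (CC d)) :
    SC (OO κ d) := by
  classical
  have hp2 : Fact (Nat.Prime 2) := ⟨Nat.prime_two⟩
  have h2 := two_ne_zero_of_odd hF
  have h1 : IsPGroup 2 (zpowers (rot F)) := by
    refine IsPGroup.of_card (n := Nat.log 2 (orderOf (rot F))) ?_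
    obtain ⟨k, hk, hk'⟩ := (Nat.dvd_prime_pow Nat.prime_two).1 (orderOf_dvd_of_pow_eq_one (rot_pow (F := F)))
    rw [Nat.card_zpowers, hk', Nat.log_pow Nat.one_lt_two]
  obtain ⟨D, hD⟩ := h1.exists_le_sylow
  obtain ⟨S⟩ := (inferInstance : Nonempty (Sylow 2 (Perm κ)))
  obtain ⟨E⟩ := (inferInstance : Nonempty (Sylow 2 (CC d)))
  have hSN : SN (MM F) := sn_plane hF (Fintype.card_fin 2) _ (DQ_nondegenerate h2 _ one'_ne')
  have hker := ker_chi h2 (cf κ d) (cf_ne d hd) (by
    rw [Fintype.card_sum, Fintype.card_prod, Fintype.card_fin]; omega)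
  have hP : IsPGroup 2 (sub (D : Subgroup (MM F)) (S : Subgroup (Perm κ)) (E : Subgroup (CC d))) :=
    isPGroup_sub D.2 S.2 E.2
  refine ⟨(sub (D : Subgroup (MM F)) (S : Subgroup (Perm κ)) (E : Subgroup (CC d))).map (psi κ d) ⊓
    commutator (OO κ d), inf_le_right, ?_, ?_⟩
  · rintro _ ⟨⟨x, hx, rfl⟩, -⟩
    obtain ⟨k, hk⟩ := hP ⟨x, hx⟩
    refine ⟨k, ?_⟩
    rw [← map_pow]
    have := congrArg Subtype.val hk
    change x ^ 2 ^ k = 1 at this
    rw [this, map_one]
  · intro g hg hgT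
    refine ⟨?_, hg⟩
    suffices key : ∃ y ∈ sub (D : Subgroup (MM F)) (S : Subgroup (Perm κ)) (E : Subgroup (CC d)),
        g = psi κ d y by
      obtain ⟨y, hy, hgy⟩ := key
      exact ⟨y, hy, hgy.symm⟩
    refine norm_mem h2 hk d hd hR (D : Subgroup (MM F)) (S : Subgroup (Perm κ))
      (E : Subgroup (CC d)) (hD (mem_zpowers _)) (hSN D) ?_ (hE E) ?_ g ?_
    · intro m hm
      have hle : (S : Subgroup (Perm κ)).map (MulAut.conj m).toMonoidHom ≤ (S : Subgroup (Perm κ)) := by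
        rintro _ ⟨t, ht, rfl⟩
        exact hm t ht
      have hcard : Nat.card ((S : Subgroup (Perm κ)).map (MulAut.conj m).toMonoidHom) =
          Nat.card (S : Subgroup (Perm κ)) :=
        Nat.card_congr ((S : Subgroup (Perm κ)).equivMapOfInjective _ (MulAut.conj m).injective).symm.toEquiv
      have heq : (S : Subgroup (Perm κ)).map (MulAut.conj m).toMonoidHom = (S : Subgroup (Perm κ)) :=
        Subgroup.eq_of_le_of_card_ge hle (le_of_eq hcard.symm)
      apply H94.Syl2Sym.sym_selfNorm S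
      rw [mem_normalizer_iff]
      intro t
      refine ⟨fun ht => hm t ht, fun ht => ?_⟩
      rw [← heq] at ht
      obtain ⟨t', ht', he⟩ := ht
      have : t' = t := (MulAut.conj m).injective he
      rw [← this]
      exact ht'
    · intro z hz i
      obtain ⟨a, ha, haz⟩ := exists_sg_chi (κ := κ) h2 d i z hz
      obtain ⟨b, hb, -, hbz⟩ := exists_mem_sylow (χ := (chw κ d).comp (sg (CC d) i)) ha D
      exact ⟨b, hb, hbz.trans haz⟩
    · intro x hx hx1
      have h3 : psi κ d x ∈ commutator (OO κ d) := by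
        rw [← hker]
        exact hx1
      obtain ⟨⟨y, hy, hxy⟩, -⟩ := hgT _ ⟨⟨x, hx, rfl⟩, h3⟩
      exact ⟨y, hy, hxy.symm⟩

theorem disc_cf {κ ρ : Type} [Fintype κ] [DecidableEq κ] [Fintype ρ] [DecidableEq ρ] (d : ρ → F) :
    disc (DQ (cf κ d)) = (2 ^ Fintype.card κ * 2 ^ Fintype.card κ) * disc (DQ d) := by
  rw [disc_DQ, disc_DQ, Fintype.prod_sum_type]
  congr 1
  have e : ∀ x : κ × Fin 2, (2 : F) * cf κ d (Sum.inl x) = 2 := fun x => mul_one _
  rw [Finset.prod_congr rfl fun x _ => e x, Finset.prod_const, Finset.card_univ, Fintype.card_prod,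
    Fintype.card_fin, mul_comm (Fintype.card κ) 2, two_mul, pow_add]

theorem noSq_empty (d : Fin 0 → F) : NoSq d := fun _ _ => Subsingleton.elim _ _

theorem noSq_unit (h2 : (2 : F) ≠ 0) (d : F) (hd : d ≠ 0) : NoSq (fun _ : Unit => d) := by
  intro b hb
  rcases isometry_unit d hd b with h | h
  · rw [h]
    rfl
  · exfalso
    rw [h] at hb
    have h3 := congrFun (congrFun hb ()) ()
    simp [Matrix.mul_apply] at h3
    rcases h3 with h3 | h3
    · exact h2 (by linear_combination h3)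
    · exact h2 (by linear_combination -h3)

/-- Odd dimension. -/
theorem sc_odd (hF : Odd (Fintype.card F)) {ι : Type} [Fintype ι] [DecidableEq ι]
    (Q : QuadraticForm F (ι → F)) (hQ : (polarBilin Q).Nondegenerate) (m : ℕ)
    (hm : Fintype.card ι = 2 * m + 1) (hm3 : 3 ≤ m) : SC (Cfsg.isometryGroup F (⇑Q)) := by
  have h2 := two_ne_zero_of_odd hF
  have hQ0 := disc_ne_zero' Q hQ
  set d : Unit → F := fun _ => 2 * disc Q with hd
  have hd0 : ∀ r, d r ≠ 0 := fun _ => mul_ne_zero h2 hQ0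
  have hdd : disc (DQ d) = disc Q * (2 * 2) := by
    rw [disc_DQ]
    simp only [Finset.univ_unique, Finset.prod_singleton, hd]
    ring
  obtain ⟨e, he⟩ := exists_equiv h2 (DQ (cf (Fin m) d)) Q (DQ_nondegenerate h2 _ (cf_ne d hd0)) hQ (by
    rw [hm, Fintype.card_sum, Fintype.card_prod, Fintype.card_fin, Fintype.card_fin, Fintype.card_unit]; ring)
    ⟨disc Q * (2 * 2 ^ Fintype.card (Fin m)), by rw [disc_cf, hdd]; ring⟩
  refine SC.congr (isoConj e _ _ he) ?_
  exact sc_main hF (by rw [Fintype.card_fin]; exact hm3) d hd0 (noSq_unit h2 _ (hd0 ())) (sn_line hF _ (hd0 ()))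

/-- Even dimension. -/
theorem sc_even (hF : Odd (Fintype.card F)) {ι : Type} [Fintype ι] [DecidableEq ι]
    (Q : QuadraticForm F (ι → F)) (hQ : (polarBilin Q).Nondegenerate) (m : ℕ)
    (hm : Fintype.card ι = 2 * m) (hm4 : 4 ≤ m) : SC (Cfsg.isometryGroup F (⇑Q)) := by
  have h2 := two_ne_zero_of_odd hF
  have hQ0 := disc_ne_zero' Q hQ
  by_cases hs : IsSquare (disc Q)
  · set d : Fin 0 → F := fun _ => 1 with hd
    have hd0 : ∀ r, d r ≠ 0 := fun _ => one_ne_zero
    have hdd : disc (DQ d) = 1 := by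
      rw [disc_DQ]
      simp
    obtain ⟨e, he⟩ := exists_equiv h2 (DQ (cf (Fin m) d)) Q (DQ_nondegenerate h2 _ (cf_ne d hd0)) hQ (by
      rw [hm, Fintype.card_sum, Fintype.card_prod, Fintype.card_fin, Fintype.card_fin, Fintype.card_fin]; ring)
      (by rw [disc_cf, hdd, mul_one]; exact IsSquare.mul ⟨_, rfl⟩ hs)
    refine SC.congr (isoConj e _ _ he) ?_
    refine sc_main hF (by rw [Fintype.card_fin]; omega) d hd0 (noSq_empty d) (sn_of_two_group ?_)
    intro x
    refine ⟨0, ?_⟩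
    apply Subtype.ext
    apply Units.ext
    exact Subsingleton.elim _ _
  · obtain ⟨k, rfl⟩ : ∃ k, m = k + 1 := ⟨m - 1, by omega⟩
    set d : Fin 2 → F := ![1, disc Q] with hd
    have hd0 : ∀ r, d r ≠ 0 := by
      intro i
      fin_cases i
      · exact one_ne_zero
      · exact hQ0
    have hdd : disc (DQ d) = disc Q * (2 * 2) := by
      rw [disc_DQ, Fin.prod_univ_two, hd]
      simp only [Matrix.cons_val_zero, Matrix.cons_val_one]
      ring
    obtain ⟨e, he⟩ := exists_equiv h2 (DQ (cf (Fin k) d)) Q (DQ_nondegenerate h2 _ (cf_ne d hd0)) hQ (by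
      rw [hm, Fintype.card_sum, Fintype.card_prod, Fintype.card_fin, Fintype.card_fin]; ring)
      ⟨disc Q * (2 * 2 ^ Fintype.card (Fin k)), by rw [disc_cf, hdd]; ring⟩
    refine SC.congr (isoConj e _ _ he) ?_
    refine sc_main hF (by rw [Fintype.card_fin]; omega) d hd0 ?_
      (sn_plane hF (Fintype.card_fin 2) _ (DQ_nondegenerate h2 d hd0))
    intro b hb
    refine plane_ns h2 d hd0 ?_ b.2 hb
    have e1 : d 0 * d 1 = disc Q := by
      rw [hd]
      simp
    rw [e1]
    exact hs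

/-! ### The simple groups -/

theorem self_odd (hF : Odd (Fintype.card F)) (m : ℕ) (hm : 3 ≤ m)
    (S : Sylow 2 (Cfsg.POmega F (Cfsg.quadFormOdd m F))) :
    normalizer ((S : Subgroup (Cfsg.POmega F (Cfsg.quadFormOdd m F))) :
      Set (Cfsg.POmega F (Cfsg.quadFormOdd m F))) ≤ S := by
  have h := sc_odd hF (quadOdd m F) (quadOdd_nondegenerate (m := m) (two_ne_zero_of_odd hF)) m (by
    simp only [Fintype.card_sum, Fintype.card_fin, Fintype.card_unit]; ring) hm
  rw [coe_quadOdd] at h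
  exact h.self S

theorem self_plus (hF : Odd (Fintype.card F)) (m : ℕ) (hm : 4 ≤ m)
    (S : Sylow 2 (Cfsg.POmega F (Cfsg.quadFormPlus m F))) :
    normalizer ((S : Subgroup (Cfsg.POmega F (Cfsg.quadFormPlus m F))) :
      Set (Cfsg.POmega F (Cfsg.quadFormPlus m F))) ≤ S := by
  have h := sc_even hF (quadPlus m F) (quadPlus_nondegenerate (m := m)) m (by
    simp only [Fintype.card_sum, Fintype.card_fin]; ring) hm
  rw [coe_quadPlus] at h
  exact h.self S

theorem self_minus (hF : Odd (Fintype.card F)) (m : ℕ) (hm : 4 ≤ m) (a b : F)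
    (hab : ∀ z₁ z₂ : F, z₁ ^ 2 + a * z₁ * z₂ + b * z₂ ^ 2 = 0 → z₁ = 0 ∧ z₂ = 0)
    (S : Sylow 2 (Cfsg.POmega F (Cfsg.quadFormMinus (m - 1) F a b))) :
    normalizer ((S : Subgroup (Cfsg.POmega F (Cfsg.quadFormMinus (m - 1) F a b))) :
      Set (Cfsg.POmega F (Cfsg.quadFormMinus (m - 1) F a b))) ≤ S := by
  have h := sc_even hF (quadMinus (m - 1) F a b) (quadMinus_nondegenerate hab) m (by
    simp only [Fintype.card_sum, Fintype.card_fin]; omega) hm
  rw [coe_quadMinus] at h
  exact h.self S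

theorem row_omega_odd (hF : Odd (Fintype.card F)) (m : ℕ) (hm : 3 ≤ m) :
    H747.RowTwo (Cfsg.POmega F (Cfsg.quadFormOdd m F)) := by
  obtain ⟨S⟩ := (inferInstance : Nonempty (Sylow 2 (Cfsg.POmega F (Cfsg.quadFormOdd m F))))
  exact Or.inl (H747.OddRow.of_self S (self_odd hF m hm S))

theorem row_omega_plus (hF : Odd (Fintype.card F)) (m : ℕ) (hm : 4 ≤ m) :
    H747.RowTwo (Cfsg.POmega F (Cfsg.quadFormPlus m F)) := by
  obtain ⟨S⟩ := (inferInstance : Nonempty (Sylow 2 (Cfsg.POmega F (Cfsg.quadFormPlus m F))))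
  exact Or.inl (H747.OddRow.of_self S (self_plus hF m hm S))

theorem row_omega_minus (hF : Odd (Fintype.card F)) (m : ℕ) (hm : 4 ≤ m) (a b : F)
    (hab : ∀ z₁ z₂ : F, z₁ ^ 2 + a * z₁ * z₂ + b * z₂ ^ 2 = 0 → z₁ = 0 ∧ z₂ = 0) :
    H747.RowTwo (Cfsg.POmega F (Cfsg.quadFormMinus (m - 1) F a b)) := by
  obtain ⟨S⟩ := (inferInstance : Nonempty (Sylow 2 (Cfsg.POmega F (Cfsg.quadFormMinus (m - 1) F a b))))
  exact Or.inl (H747.OddRow.of_self S (self_minus hF m hm a b hab S))

end Field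

end Cfsg.Agent.H803.RowOmega
end
end
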