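import Cfsg.Agent.H802.FusNormalSub
import Cfsg.Agent.H759.FusLift
set_option linter.all false
/-!
# Realization of a fusion system by a quotient modulo a normal p'-subgroup and by a subgroup (helper803)
-/
set_option autoImplicit false

namespace Cfsg.Agent.H803
open Cfsg Cfsg.FusionSystem

/-- An element of a `p`-subgroup and of a subgroup of order prime to `p` is trivial. -/
theorem eq_one_of_mem_of_coprime {G : Type*} [Group G] {p : ℕ} [Fact p.Prime] {K B : Subgroup G}
    [Finite K] (hB : IsPGroup p B) (hK : (Nat.card K).Coprime p) {z : G} (hzB : z ∈ B) (hzK : z ∈ K) :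
    z = 1 := by
  obtain ⟨n, hn⟩ := hB ⟨z, hzB⟩
  have h1 : z ^ p ^ n = 1 := by
    have := congrArg Subtype.val hn
    simpa using this
  have h2 : orderOf z ∣ p ^ n := orderOf_dvd_of_pow_eq_one h1
  have h3 : orderOf z ∣ Nat.card K := by
    have := orderOf_dvd_natCard (⟨z, hzK⟩ : K)
    rwa [Subgroup.orderOf_mk] at this
  have h4 : orderOf z = 1 :=
    Nat.eq_one_of_dvd_coprimes (Nat.Coprime.pow_right n hK) h3 h2
  exact orderOf_eq_one_iff.1 h4

/-- Two homomorphisms of a finite `p`-group `P` into `G` which are congruent modulo a normal subgroup `K` of order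
prime to `p` are conjugate by an element of `K`. -/
theorem exists_conj_of_congr {G : Type*} [Group G] [Finite G] {p : ℕ} [Fact p.Prime] {P : Type*}
    [Group P] (hP : IsPGroup p P) (α β : P →* G) (K : Subgroup G) [hKn : K.Normal]
    (hK : (Nat.card K).Coprime p) (h : ∀ x, (α x)⁻¹ * β x ∈ K) :
    ∃ k ∈ K, ∀ x, β x = k * α x * k⁻¹ := by
  have hp : p.Prime := Fact.out
  have hBp : IsPGroup p β.range := hP.of_surjective β.rangeRestrict β.rangeRestrict_surjective
  have hAp : IsPGroup p α.range := hP.of_surjective α.rangeRestrict α.rangeRestrict_surjective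
  set M := β.range ⊔ K with hM
  have hKM : K ≤ M := le_sup_right
  have hBM : β.range ≤ M := le_sup_left
  have hAM : α.range ≤ M := by
    rintro _ ⟨x, rfl⟩
    have h1 : α x = β x * ((α x)⁻¹ * β x)⁻¹ := by group
    rw [h1]
    exact M.mul_mem (hBM ⟨x, rfl⟩) (hKM (K.inv_mem (h x)))
  have hcard : Nat.card M = Nat.card K * K.relIndex β.range := by
    have h1 := Subgroup.relIndex_mul_relIndex ⊥ K M bot_le hKM
    rw [Subgroup.relIndex_bot_left, Subgroup.relIndex_bot_left] at h1
    rw [← h1, hM, Subgroup.relIndex_sup_right]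
  obtain ⟨j, hj⟩ : ∃ j, K.relIndex β.range = p ^ j := by
    obtain ⟨n, hn⟩ := IsPGroup.iff_card.1 hBp
    have h1 : K.relIndex β.range ∣ p ^ n := hn ▸ Subgroup.relIndex_dvd_card K β.range
    obtain ⟨j, -, hj⟩ := (Nat.dvd_prime_pow hp).1 h1
    exact ⟨j, hj⟩
  have hfac : (Nat.card M).factorization p = j := by
    rw [hcard, hj, Nat.factorization_mul Nat.card_pos.ne' (pow_pos hp.pos j).ne']
    have h1 : (Nat.card K).factorization p = 0 :=
      Nat.factorization_eq_zero_of_not_dvd ((Nat.Prime.coprime_iff_not_dvd hp).1 hK.symm)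
    simp [h1, hp.factorization_self]
  have hsyl : H802.SylIn p β.range M := by
    refine H802.sylIn_of_card_ge hBM hBp ?_
    rw [hfac, ← hj]
    exact Nat.le_of_dvd Nat.card_pos (Subgroup.relIndex_dvd_card K β.range)
  obtain ⟨m, hm, hmA⟩ := hsyl.exists_conj hAM hAp
  have hBN : β.range ≤ Subgroup.normalizer (K : Set G) := by
    rw [Subgroup.normalizer_eq_top]
    exact le_top
  obtain ⟨b, hb, k, hk, rfl⟩ := (H759.mem_sup_of_normalizes hBN).1 hm
  refine ⟨k, hk, fun x => ?_⟩
  have h1 : k * α x * k⁻¹ ∈ β.range := by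
    have h2 := hmA (α x) ⟨x, rfl⟩
    have h3 : k * α x * k⁻¹ = b⁻¹ * (b * k * α x * (b * k)⁻¹) * b := by group
    rw [h3]
    exact β.range.mul_mem (β.range.mul_mem (β.range.inv_mem hb) h2) hb
  have h4 : (k * α x * k⁻¹)⁻¹ * β x ∈ K := by
    have h5 : (k * α x * k⁻¹)⁻¹ * β x = k * (α x)⁻¹ * k⁻¹ * α x * ((α x)⁻¹ * β x) := by group
    rw [h5]
    refine K.mul_mem ?_ (h x)
    have h6 : k * (α x)⁻¹ * k⁻¹ * α x = k * ((α x)⁻¹ * k⁻¹ * (α x)⁻¹⁻¹) := by group
    rw [h6]
    exact K.mul_mem hk (hKn.conj_mem _ (K.inv_mem hk) _)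
  have h7 : (k * α x * k⁻¹)⁻¹ * β x ∈ β.range :=
    β.range.mul_mem (β.range.inv_mem h1) ⟨x, rfl⟩
  have h8 := eq_one_of_mem_of_coprime hBp hK h7 h4
  rw [inv_mul_eq_one] at h8
  exact h8.symm

universe u v
variable {Ω : Type u} [Group Ω] {S : Subgroup Ω} {p : ℕ}

/-- Realization by the quotient modulo a normal subgroup of order prime to `p`. -/
theorem isRealizedBy_quotient [Fact p.Prime] {G : Type v} [Group G] [Finite G] (hS : IsPGroup p S)
    {F : FusionSystem S} {ι : S →* G} (h : F.IsRealizedBy ι) (K : Subgroup G) [hKn : K.Normal]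
    (hK : (Nat.card K).Coprime p) : F.IsRealizedBy ((QuotientGroup.mk' K).comp ι) := by
  obtain ⟨hinj, h⟩ := h
  have hrp : IsPGroup p ι.range := hS.of_surjective ι.rangeRestrict ι.rangeRestrict_surjective
  refine ⟨?_, fun P hP φ hφ => ?_⟩
  · rw [injective_iff_map_eq_one]
    intro x hx
    have h1 : ι x ∈ K := (QuotientGroup.eq_one_iff _).1 hx
    have h2 := eq_one_of_mem_of_coprime hrp hK (⟨x, rfl⟩ : ι x ∈ ι.range) h1
    exact (injective_iff_map_eq_one ι).1 hinj x h2
  · rw [h P hP φ hφ]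
    constructor
    · rintro ⟨g, hg⟩
      refine ⟨(g : G ⧸ K), fun x => ?_⟩
      show ((ι ⟨φ x, hφ x⟩ : G) : G ⧸ K) = _
      rw [hg x]
      rfl
    · rintro ⟨g', hg⟩
      obtain ⟨g, rfl⟩ := QuotientGroup.mk_surjective g'
      have hPp : IsPGroup p P := hS.to_le hP
      obtain ⟨k, hk, hke⟩ := exists_conj_of_congr hPp
        ((MulAut.conj g).toMonoidHom.comp (ι.comp (Subgroup.inclusion hP)))
        (ι.comp (φ.codRestrict S hφ)) K hK (fun x => by
          rw [← QuotientGroup.eq]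
          exact (hg x).symm)
      refine ⟨k * g, fun x => ?_⟩
      have h1 := hke x
      have h2 : ι ⟨φ x, hφ x⟩ = k * (g * ι ⟨x, hP x.2⟩ * g⁻¹) * k⁻¹ := h1
      rw [h2]
      group

theorem isSylow_quotient [Fact p.Prime] {G : Type v} [Group G] [Finite G]
    {ι : S →* G} (T : Sylow p G) (hT : (T : Subgroup G) = ι.range)
    (K : Subgroup G) [hKn : K.Normal] (hinj : Function.Injective ι)
    (hinj' : Function.Injective ((QuotientGroup.mk' K).comp ι)) (hK : (Nat.card K).Coprime p) :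
    ∃ T' : Sylow p (G ⧸ K), (T' : Subgroup (G ⧸ K)) = ((QuotientGroup.mk' K).comp ι).range := by
  have hp : p.Prime := Fact.out
  have h1 : Nat.card ((QuotientGroup.mk' K).comp ι).range = Nat.card ι.range :=
    (Nat.card_congr (MonoidHom.ofInjective hinj').toEquiv).symm.trans
      (Nat.card_congr (MonoidHom.ofInjective hinj).toEquiv)
  have h2 : Nat.card ι.range = p ^ (Nat.card G).factorization p := by
    rw [← hT]
    exact T.card_eq_multiplicity
  have h3 : Nat.card G = Nat.card (G ⧸ K) * Nat.card K := Subgroup.card_eq_card_quotient_mul_card_subgroup K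
  have h4 : (Nat.card G).factorization p = (Nat.card (G ⧸ K)).factorization p := by
    rw [h3, Nat.factorization_mul Nat.card_pos.ne' Nat.card_pos.ne']
    have h1 : (Nat.card K).factorization p = 0 :=
      Nat.factorization_eq_zero_of_not_dvd ((Nat.Prime.coprime_iff_not_dvd hp).1 hK.symm)
    simp [h1]
  have h5 : Nat.card ((QuotientGroup.mk' K).comp ι).range =
      p ^ (Nat.card (G ⧸ K)).factorization p := by rw [h1, h2, h4]
  exact ⟨Sylow.ofCard ((QuotientGroup.mk' K).comp ι).range h5, rfl⟩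

/-- The transported system of a realized system is the fusion system of the group: membership criterion. -/
theorem mem_iff_of_isRealizedBy {G : Type v} [Group G] {F : FusionSystem S} {ι : S →* G}
    (h : F.IsRealizedBy ι) {P : Subgroup Ω} (hP : P ≤ S) {φ : P →* Ω} (hφ : ∀ x : P, φ x ∈ S) :
    φ ∈ F.Hom P ↔ ∃ g : G, ∀ x : P, ι ⟨φ x, hφ x⟩ = g * ι ⟨x, hP x.2⟩ * g⁻¹ :=
  h.2 P hP φ hφ

/-- Realization by a subgroup containing the image and inducing the same fusion system. -/
theorem isRealizedBy_subgroup {G : Type v} [Group G] {F : FusionSystem S} {ι : S →* G}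
    (h : F.IsRealizedBy ι) (H : Subgroup G) (hH : ι.range ≤ H)
    (hsame : ∀ P : Subgroup G, (groupFusionSystem ι.range).Hom P ⊆
      (fusionSystemOfSubgroup H ι.range hH).Hom P) :
    F.IsRealizedBy (ι.codRestrict H (fun x => hH ⟨x, rfl⟩)) := by
  obtain ⟨hinj, h⟩ := h
  refine ⟨fun a b hab => hinj (congrArg Subtype.val hab), fun P hP φ hφ => ?_⟩
  rw [h P hP φ hφ]
  constructor
  · rintro ⟨g, hg⟩
    let Q : Subgroup G := (ι.comp (Subgroup.inclusion hP)).range
    have hQ : Q ≤ ι.range := by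
      rintro _ ⟨x, rfl⟩
      exact ⟨_, rfl⟩
    have hmem : conjHom Q g ∈ (groupFusionSystem ι.range).Hom Q := by
      refine ⟨hQ, ?_, g, fun x => rfl⟩
      rintro ⟨_, x, rfl⟩
      refine ⟨⟨φ x, hφ x⟩, ?_⟩
      rw [hg x]
      rfl
    obtain ⟨-, -, k, hk, hke⟩ := hsame Q hmem
    refine ⟨⟨k, hk⟩, fun x => Subtype.ext ?_⟩
    show ι ⟨φ x, hφ x⟩ = k * ι ⟨x, hP x.2⟩ * k⁻¹
    rw [hg x]
    exact hke ⟨ι ⟨x, hP x.2⟩, ⟨x, rfl⟩⟩
  · rintro ⟨g, hg⟩
    exact ⟨g, fun x => congrArg Subtype.val (hg x)⟩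

end Cfsg.Agent.H803
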